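import Cfsg.Agent.Lib.Compute.PermSimple

/-!
# Abstract lemmas for certified chains in matrix groups

`cover_of_left_closed`, `card_le_of_cover`: a set closed under left multiplication by generators contains the generated
subgroup; `coset_perm`: the permutation representation on the cosets of a subgroup, given by representatives;
`card_ge_step`: a lower bound for the order of a permutation group; `preprimitive_of_classes`: primitivity from a
partition into `K`-orbits and arithmetic; `quotient_facts`: passage to the central quotient.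
-/

set_option autoImplicit false

namespace Cfsg.Agent.Lib.Compute.J3.Chain

open MulAction
open scoped Pointwise

section Cover

variable {Γ : Type*} [Group Γ] [Finite Γ]

/-- A set containing 1 and closed under left multiplication by generators contains the generated subgroup. -/
theorem mem_of_left_closed {S X : Set Γ} (h1 : (1 : Γ) ∈ X) (hS : ∀ s ∈ S, ∀ x ∈ X, s * x ∈ X) {g : Γ}
    (hg : g ∈ Subgroup.closure S) : g ∈ X := by
  have key : ∀ x ∈ X, g * x ∈ X := by
    induction hg using Subgroup.closure_induction with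
    | mem s hs => exact hS s hs
    | one => intro x hx; simpa using hx
    | mul a b _ _ iha ihb =>
      intro x hx
      rw [mul_assoc]
      exact iha _ (ihb _ hx)
    | inv a _ iha =>
      intro x hx
      have hpow : ∀ k : ℕ, ∀ y ∈ X, a ^ k * y ∈ X := by
        intro k
        induction k with
        | zero => intro y hy; simpa using hy
        | succ k ih =>
          intro y hy
          rw [pow_succ, mul_assoc]
          exact ih _ (iha _ hy)
      have hord : 0 < orderOf a := orderOf_pos a
      have : a⁻¹ = a ^ (orderOf a - 1) := by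
        rw [inv_eq_iff_mul_eq_one, ← pow_succ', Nat.sub_add_cancel hord, pow_orderOf_eq_one]
      rw [this]
      exact hpow _ _ hx
  simpa using key 1 h1

variable {A : Type*} [Monoid A] (v : Γ →* A) (hv : Function.Injective v)

/-- The set of elements of the form `T j * h`, `h ∈ H`, contains the subgroup generated by `S`. -/
theorem cover_of_table {S : Set Γ} {H : Subgroup Γ} {T : ℕ → A} {n j₀ : ℕ} (hj₀ : j₀ < n) (hT : T j₀ = 1)
    (hS : ∀ s ∈ S, ∀ j, j < n → ∃ j', j' < n ∧ ∃ h ∈ H, v s * T j = T j' * v h) {g : Γ}
    (hg : g ∈ Subgroup.closure S) : ∃ j, j < n ∧ ∃ h ∈ H, v g = T j * v h := by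
  refine mem_of_left_closed (S := S) (X := {g | ∃ j, j < n ∧ ∃ h ∈ H, v g = T j * v h}) ?_ ?_ hg
  · exact ⟨j₀, hj₀, 1, H.one_mem, by simp [hT]⟩
  · rintro s hs x ⟨j, hj, h, hh, hx⟩
    obtain ⟨j', hj', h', hh', e⟩ := hS s hs j hj
    refine ⟨j', hj', h' * h, H.mul_mem hh' hh, ?_⟩
    rw [map_mul, hx, ← mul_assoc, e, mul_assoc, ← map_mul]

include hv in
/-- The bound on the order given by a cover. -/
theorem card_le_of_cover {G H : Subgroup Γ} {T : ℕ → A} {n : ℕ}
    (hc : ∀ g ∈ G, ∃ j, j < n ∧ ∃ h ∈ H, v g = T j * v h) : Nat.card G ≤ n * Nat.card H := by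
  classical
  choose! f hf h hh e using hc
  let φ : G → Fin n × H := fun g => (⟨f g, hf g g.2⟩, ⟨h g, hh g g.2⟩)
  have hφ : Function.Injective φ := by
    intro a b hab
    apply Subtype.ext
    apply hv
    have h1 : f a = f b := congrArg (fun p => (p.1 : ℕ)) hab
    have h2 : h a = h b := congrArg (fun p => (p.2 : Γ)) hab
    rw [e a a.2, e b b.2, h1, h2]
  have := Nat.card_le_card_of_injective φ hφ
  simpa [Nat.card_prod] using this

end Cover

section Coset

variable {G : Type*} [Group G] [Finite G]

/-- The permutation representation on the cosets of a subgroup, given by representatives. -/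
theorem coset_perm (L : Subgroup G) {n : ℕ} (t : Fin n → G) (hcover : ∀ g, ∃ j, ∃ h ∈ L, g = t j * h)
    (hcard : Nat.card G = n * Nat.card L) :
    ∃ ρ : G →* Equiv.Perm (Fin n),
      (∀ g j j', (∃ h ∈ L, g * t j = t j' * h) → ρ g j = j') ∧
      (∀ g j, ρ g j = j → (t j)⁻¹ * g * t j ∈ L) := by
  classical
  let e : Fin n → G ⧸ L := fun j => (t j : G ⧸ L)
  have hsurj : Function.Surjective e := by
    intro q
    induction q using QuotientGroup.induction_on with
    | H g =>
      obtain ⟨j, h, hh, rfl⟩ := hcover g
      refine ⟨j, ?_⟩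
      show ((t j : G) : G ⧸ L) = ((t j * h : G) : G ⧸ L)
      rw [QuotientGroup.eq]
      simpa using hh
  have hLpos : 0 < Nat.card L := Nat.card_pos
  have hidx : L.index = n := by
    have := Subgroup.card_mul_index L
    rw [hcard, mul_comm n] at this
    exact Nat.eq_of_mul_eq_mul_left hLpos this
  have hcardQ : Nat.card (G ⧸ L) = n := by
    rw [← hidx]
    rfl
  have hbij : Function.Bijective e := by
    refine hsurj.bijective_of_nat_card_le ?_
    simp [hcardQ]
  let E : Fin n ≃ G ⧸ L := Equiv.ofBijective e hbij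
  let ρ : G →* Equiv.Perm (Fin n) :=
    (Equiv.permCongrHom E.symm).toMonoidHom.comp (MulAction.toPermHom G (G ⧸ L))
  have hρ : ∀ g j, E (ρ g j) = g • E j := by
    intro g j
    show E (E.symm (g • E j)) = g • E j
    simp
  refine ⟨ρ, ?_, ?_⟩
  · rintro g j j' ⟨h, hh, heq⟩
    apply E.injective
    rw [hρ]
    show g • ((t j : G) : G ⧸ L) = ((t j' : G) : G ⧸ L)
    rw [MulAction.Quotient.smul_coe, smul_eq_mul, heq, eq_comm, QuotientGroup.eq]
    simpa using hh
  · intro g j hj
    have h1 := hρ g j
    rw [hj] at h1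
    have h2 : ((t j : G) : G ⧸ L) = ((g * t j : G) : G ⧸ L) := h1
    rw [QuotientGroup.eq] at h2
    have : (t j)⁻¹ * (g * t j) ∈ L := h2
    rwa [← mul_assoc] at this

end Coset

section PermBounds

variable {X : Type*} [Finite X]

/-- A lower bound for the order of a permutation group from a list of elements moving a point to distinct points. -/
theorem card_ge_step (H : Subgroup (Equiv.Perm X)) (b : X) (l : List (Equiv.Perm X)) (hl : ∀ g ∈ l, g ∈ H)
    (hnd : (l.map fun g => g b).Nodup) :
    l.length * Nat.card ↥(H ⊓ MulAction.stabilizer (Equiv.Perm X) b) ≤ Nat.card H := by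
  classical
  let φ : Fin l.length × ↥(H ⊓ MulAction.stabilizer (Equiv.Perm X) b) → H := fun q =>
    ⟨l[q.1] * (q.2 : Equiv.Perm X), H.mul_mem (hl _ (List.getElem_mem _)) q.2.2.1⟩
  have hφ : Function.Injective φ := by
    rintro ⟨i, s⟩ ⟨j, u⟩ h
    have h1 : l[i] * (s : Equiv.Perm X) = l[j] * (u : Equiv.Perm X) := congrArg Subtype.val h
    have hs : (s : Equiv.Perm X) b = b := s.2.2
    have hu : (u : Equiv.Perm X) b = b := u.2.2
    have h2 : l[i] b = l[j] b := by
      have := congrArg (fun g : Equiv.Perm X => g b) h1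
      simpa [Equiv.Perm.mul_apply, hs, hu] using this
    have hlen : (l.map fun g => g b).length = l.length := by simp
    have h3 : i = j := by
      apply Fin.ext
      apply (List.Nodup.getElem_inj_iff hnd (i := i.1) (j := j.1) (hi := by simp) (hj := by simp)).mp
      simpa using h2
    subst h3
    have h4 : (s : Equiv.Perm X) = u := mul_left_cancel h1
    have h5 : s = u := Subtype.ext h4
    rw [h5]
  have := Nat.card_le_card_of_injective φ hφ
  simpa [Nat.card_prod] using this

end PermBounds

section Prim

variable {n : ℕ}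

/-- Primitivity from a partition into orbits of a subgroup of the stabilizer of a point, and arithmetic. -/
theorem preprimitive_of_classes (G : Subgroup (Equiv.Perm (Fin n))) [IsPretransitive G (Fin n)] (a : Fin n)
    (K : Subgroup (Equiv.Perm (Fin n))) (hKG : K ≤ G) (hKa : ∀ k ∈ K, k a = a) {m : ℕ} (cl : Fin n → Fin m)
    (hconn : ∀ x y, cl x = cl y → ∃ k ∈ K, k x = y) (sz : Fin m → ℕ)
    (hsz : ∀ c, (Finset.univ.filter fun x => cl x = c).card = sz c)
    (harith : ∀ J : Finset (Fin m), cl a ∈ J → (∑ c ∈ J, sz c) ∣ n → (∑ c ∈ J, sz c) = 1 ∨ (∑ c ∈ J, sz c) = n) :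
    IsPreprimitive G (Fin n) := by
  classical
  refine IsPreprimitive.of_isTrivialBlock_base a ?_
  intro B haB hB
  have hinv : ∀ k ∈ K, ∀ x ∈ B, k x ∈ B := by
    intro k hk x hx
    have hkG : k ∈ G := hKG hk
    have h1 : (⟨k, hkG⟩ : G) • B = B := by
      refine (isBlock_iff_smul_eq_of_mem.mp hB) haB ?_
      have : (⟨k, hkG⟩ : G) • a = a := hKa k hk
      rw [this]
      exact haB
    have h2 : (⟨k, hkG⟩ : G) • x ∈ (⟨k, hkG⟩ : G) • B := Set.smul_mem_smul_set hx
    rw [h1] at h2
    exact h2
  let J : Finset (Fin m) := Finset.univ.filter fun c => ∃ x ∈ B, cl x = c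
  have hB' : ∀ x, x ∈ B ↔ cl x ∈ J := by
    intro x
    constructor
    · intro hx
      exact Finset.mem_filter.mpr ⟨Finset.mem_univ _, x, hx, rfl⟩
    · intro hx
      obtain ⟨y, hy, hyx⟩ := (Finset.mem_filter.mp hx).2
      obtain ⟨k, hk, hkx⟩ := hconn y x hyx
      rw [← hkx]
      exact hinv k hk y hy
  have hcard : B.ncard = ∑ c ∈ J, sz c := by
    have h1 : B = ((Finset.univ.filter fun x => cl x ∈ J : Finset (Fin n)) : Set (Fin n)) := by
      ext x
      simp [hB']
    rw [h1, Set.ncard_coe_finset, Finset.card_eq_sum_card_fiberwise (f := cl) (t := J)]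
    · apply Finset.sum_congr rfl
      intro c hc
      rw [← hsz c]
      congr 1
      ext x
      simp only [Finset.mem_filter, Finset.mem_univ, true_and]
      constructor
      · rintro ⟨_, h⟩
        exact h
      · intro h
        exact ⟨h ▸ hc, h⟩
    · intro x hx
      exact (Finset.mem_filter.mp hx).2
  have hdvd : B.ncard ∣ n := by
    have := IsBlock.ncard_dvd_card hB ⟨a, haB⟩
    simpa using this
  rw [hcard] at hdvd
  rcases harith J ((hB' a).mp haB) hdvd with h | h
  · left
    rw [← hcard] at h
    exact Set.ncard_le_one_iff_subsingleton.mp (by omega)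
  · right
    rw [← hcard] at h
    apply Set.eq_of_subset_of_ncard_le (Set.subset_univ _)
    rw [h]
    simp

end Prim

section Quot

variable {G : Type*} [Group G] [Finite G] {P : Type*} [Group P] [Finite P]

/-- A surjection onto a simple nonabelian group, with kernel generated by a central element of order 3. -/
theorem quotient_facts (ρ : G →* P) (hρ : Function.Surjective ρ) [IsSimpleGroup P] (hP : Subgroup.center P = ⊥)
    {N : ℕ} (hG : Nat.card G = 3 * N) (hPc : Nat.card P = N) (hN : 0 < N) {z : G} (hz : z ∈ Subgroup.center G)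
    (hz3 : orderOf z = 3) (hzk : ρ z = 1) :
    Nat.card (Subgroup.center G) = 3 ∧ Nat.card (G ⧸ Subgroup.center G) = N ∧ IsSimpleGroup (G ⧸ Subgroup.center G) := by
  classical
  -- the kernel
  have hker : Nat.card ρ.ker = 3 := by
    have h1 := Subgroup.card_mul_index ρ.ker
    have h2 : ρ.ker.index = N := by
      rw [Subgroup.index_ker, MonoidHom.range_eq_top.mpr hρ]
      simpa using hPc
    rw [h2, hG] at h1
    exact Nat.eq_of_mul_eq_mul_right hN h1
  have hzp : Subgroup.zpowers z ≤ ρ.ker := by
    rw [Subgroup.zpowers_le]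
    exact hzk
  have hzc : Nat.card (Subgroup.zpowers z) = 3 := by
    rw [Nat.card_zpowers, hz3]
  have hzeq : Subgroup.zpowers z = ρ.ker :=
    Subgroup.eq_of_le_of_card_ge hzp (by rw [hker, hzc])
  have hcen : Subgroup.center G = ρ.ker := by
    apply le_antisymm
    · intro c hc
      have : ρ c ∈ Subgroup.center P := by
        rw [Subgroup.mem_center_iff]
        intro y
        obtain ⟨x, rfl⟩ := hρ y
        rw [← map_mul, ← map_mul, (Subgroup.mem_center_iff.mp hc) x]
      rw [hP, Subgroup.mem_bot] at this
      exact this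
    · rw [← hzeq, Subgroup.zpowers_le]
      exact hz
  have e : G ⧸ Subgroup.center G ≃* P := by
    have e1 := QuotientGroup.quotientKerEquivOfSurjective ρ hρ
    exact (QuotientGroup.quotientMulEquivOfEq hcen).trans e1
  refine ⟨by rw [hcen, hker], by rw [Nat.card_congr e.toEquiv, hPc], ?_⟩
  exact e.isSimpleGroup

end Quot

end Cfsg.Agent.Lib.Compute.J3.Chain
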