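import Cfsg.Agent.Lib.Compute.J3.F4Mat
import Cfsg.Agent.Lib.Compute.J3.Data
import Cfsg.Agent.Lib.Compute.PermCert

/-!
# The checks of the stabilizer chain of the triple cover of `J₃`, on packed matrices

All the numeric checks are in this file, evaluated by the kernel.
-/

set_option autoImplicit false

namespace Cfsg.Agent.Lib.Compute.J3.Check

open Cfsg.Agent.Lib.Compute.PermCert
open Cfsg.Agent.Lib.Compute.J3.Data Cfsg.Agent.Lib.Compute.J3.F4Mat

/-- The mask of a packed matrix. -/
def M162 : Nat := 0x3FFFFFFFFFFFFFFFFFFFFFFFFFFFFFFFFFFFFFFFF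

/-- The matrix at position `i` of a table. -/
def tb (big i : Nat) : Nat := get 162 M162 big i

theorem M162_eq : M162 = 2 ^ 162 - 1 := by decide +kernel

theorem tb_lt (big i : Nat) : tb big i < 2 ^ 162 := by
  have h : Nat.land (Nat.shiftRight big (Nat.mul 162 i)) M162 ≤ M162 := Nat.and_le_right
  have h2 : M162 < 2 ^ 162 := by decide +kernel
  exact lt_of_le_of_lt h h2

/-- Coset representatives, level 0. -/
def T0 (j : Nat) : Nat := tb T0big j
/-- Coset representatives, level 1. -/
def T1 (j : Nat) : Nat := tb T1big j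
/-- The elements of level 2. -/
def T2 (j : Nat) : Nat := tb T2big j

theorem T0_zero : T0 0 = oneC := by decide +kernel
theorem T1_zero : T1 0 = oneC := by decide +kernel
theorem T2_zero : T2 0 = oneC := by decide +kernel

/-! ### Level 2 -/

/-- The row table of a generator of level 2. -/
def r2g (s : Nat) : Nat := Nat.rec r2a (fun _ _ => r2b) s
/-- A generator of level 2. -/
def g2c (s : Nat) : Nat := Nat.rec (T2 1) (fun _ _ => T2 2) s

/-- The check of a row of level 2. -/
def row2OK (g r k : Nat) : Bool :=
  frc (get 7 127 r k) fun k' => Nat.blt k' 96 && Nat.beq (mm g (T2 k)) (T2 k')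

/-- The tree of level 2: parent. -/
def p2 (k : Nat) : Nat := Nat.land (get 8 255 par2 k) 127
/-- The tree of level 2: letter. -/
def s2 (k : Nat) : Nat := Nat.shiftRight (get 8 255 par2 k) 7

/-- The check of the tree of level 2. -/
def tree2OK (k : Nat) : Bool :=
  Nat.rec true (fun _ _ => Nat.blt (p2 k) k && Nat.beq (get 7 127 (r2g (s2 k)) (p2 k)) k) k

theorem row2a_ok : allB (row2OK (g2c 0) (r2g 0)) 96 = true := by decide +kernel
theorem row2b_ok : allB (row2OK (g2c 1) (r2g 1)) 96 = true := by decide +kernel
theorem tree2_ok : allB tree2OK 96 = true := by decide +kernel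

/-! ### Level 1 -/

/-- The row table of a generator of level 1. -/
def r1g (s : Nat) : Nat := Nat.rec r1a (fun _ _ => r1b) s
/-- A generator of level 1. -/
def g1c (s : Nat) : Nat := Nat.rec s1a (fun _ _ => s1b) s

/-- The check of a row of level 1. -/
def row1OK (g r i : Nat) : Bool :=
  frc (get 15 32767 r i) fun e => frc (Nat.land e 255) fun ip => frc (Nat.shiftRight e 8) fun k =>
    Nat.blt ip 255 && Nat.blt k 96 && Nat.beq (mm g (T1 i)) (mm (T1 ip) (T2 k))

/-- The tree of level 1: parent. -/
def p1 (k : Nat) : Nat := Nat.land (get 9 511 par1 k) 255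
/-- The tree of level 1: letter. -/
def s1 (k : Nat) : Nat := Nat.shiftRight (get 9 511 par1 k) 8

/-- The check of the tree of level 1. -/
def tree1OK (k : Nat) : Bool :=
  Nat.rec true (fun _ _ => Nat.blt (p1 k) k && Nat.beq (get 15 32767 (r1g (s1 k)) (p1 k)) k) k

theorem row1a_ok : allB (row1OK (g1c 0) (r1g 0)) 255 = true := by decide +kernel
theorem row1b_ok : allB (row1OK (g1c 1) (r1g 1)) 255 = true := by decide +kernel
theorem tree1_ok : allB tree1OK 255 = true := by decide +kernel

/-- Level 2 generators come from level 1. -/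
theorem link2 : Nat.beq (get 15 32767 r1a 143) 0 = false ∧ Nat.shiftRight (get 15 32767 r1a 143) 8 = 1 ∧
    Nat.shiftRight (get 15 32767 r1a 224) 8 = 2 := by decide +kernel

/-! ### Level 0 -/

/-- The perm table of a generator of level 0. -/
def f0g (s : Nat) : Nat := Nat.rec fA (fun _ _ => fB) s
/-- The row table of a generator of level 0. -/
def r0g (s : Nat) : Nat := Nat.rec rA (fun _ _ => rB) s
/-- A generator of level 0. -/
def g0c (s : Nat) : Nat := Nat.rec cA (fun _ _ => cB) s

/-- The check of a row of level 0. -/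
def row0OK (g f r j : Nat) : Bool :=
  frc (mm g (T0 j)) fun u => frc (get 13 8191 f j) fun jp => frc (get 15 32767 r j) fun e =>
    Nat.blt jp 6156 && Nat.rec (Nat.beq u (T0 jp))
      (fun _ _ => frc (Nat.land e 255) fun i => frc (Nat.shiftRight e 8) fun k =>
        Nat.blt i 255 && Nat.blt k 96 && Nat.beq u (mm (T0 jp) (mm (T1 i) (T2 k)))) e

/-- The tree of level 0: parent. -/
def p0 (k : Nat) : Nat := Nat.land (get 14 16383 par0 k) 8191
/-- The tree of level 0: letter. -/
def s0 (k : Nat) : Nat := Nat.shiftRight (get 14 16383 par0 k) 13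

/-- The check of the tree of level 0. -/
def tree0OK (k : Nat) : Bool :=
  Nat.rec true (fun _ _ => Nat.blt (p0 k) k && Nat.beq (get 13 8191 (f0g (s0 k)) (p0 k)) k &&
    Nat.beq (get 15 32767 (r0g (s0 k)) (p0 k)) 0) k

theorem row0a_ok : allB (row0OK (g0c 0) (f0g 0) (r0g 0)) 6156 = true := by decide +kernel
theorem row0b_ok : allB (row0OK (g0c 1) (f0g 1) (r0g 1)) 6156 = true := by decide +kernel
theorem tree0_ok : allB tree0OK 6156 = true := by decide +kernel

/-! ### Inverses, words -/

theorem cA_inv : mm cA cAi = oneC ∧ mm cAi cA = oneC := by decide +kernel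
theorem cB_inv : mm cB cBi = oneC ∧ mm cBi cB = oneC := by decide +kernel

/-- The code of a letter. -/
def lt0 (l : Nat) : Nat := Nat.rec cA (fun n _ => Nat.rec cAi (fun n _ => Nat.rec cB (fun _ _ => cBi) n) n) l

/-- The code of a word. -/
def wcode : List Nat → Nat
  | [] => oneC
  | l :: u => mm (lt0 l) (wcode u)

theorem w1a_ok : Nat.beq (wcode w1a) s1a = true := by decide +kernel
theorem w1b_ok : Nat.beq (wcode w1b) s1b = true := by decide +kernel

/-! ### Elements with a position in the chain -/

/-- The check of a position in the chain. -/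
def siftOK (t : Nat × Nat × Nat) (c : Nat) : Bool :=
  Nat.blt t.1 6156 && Nat.blt t.2.1 255 && Nat.blt t.2.2 96 && Nat.beq (mm (T0 t.1) (mm (T1 t.2.1) (T2 t.2.2))) c

theorem sift_p3a_ok : siftOK sift_p3a p3a = true := by decide +kernel
theorem sift_p3b_ok : siftOK sift_p3b p3b = true := by decide +kernel
theorem sift_p2a_ok : siftOK sift_p2a p2a = true := by decide +kernel
theorem sift_p2b_ok : siftOK sift_p2b p2b = true := by decide +kernel
theorem sift_p2c_ok : siftOK sift_p2c p2c = true := by decide +kernel
theorem sift_r5_ok : siftOK sift_r5 r5 = true := by decide +kernel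
theorem sift_r17_ok : siftOK sift_r17 r17 = true := by decide +kernel
theorem sift_zc_ok : siftOK sift_zc zc = true := by decide +kernel
theorem sift_zc_eq : sift_zc.1 = 0 ∧ sift_zc.2.2 = 0 := by decide +kernel

/-- The generators of the definition are in the group. -/
theorem sift_gens_ok : siftGens.length = genCodes.length ∧
    (siftGens.zip genCodes).all (fun q => siftOK q.1 q.2) = true := by decide +kernel

/-- The generators of the definition are invertible. -/
theorem gen_inv_ok : genCodes.length = genInvCodes.length ∧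
    (genCodes.zip genInvCodes).all (fun q => Nat.beq (mm q.1 q.2) oneC && Nat.beq (mm q.2 q.1) oneC) = true := by
  decide +kernel

/-! ### Powers -/

/-- The power of a packed matrix. -/
def pw (c : Nat) : Nat → Nat
  | 0 => oneC
  | n + 1 => mm c (pw c n)

theorem pw_ok : Nat.beq (pw r5 5) oneC = true ∧ Nat.beq (pw r17 17) oneC = true ∧ Nat.beq (pw cA 19) oneC = true ∧
    Nat.beq (pw zc 3) oneC = true := by decide +kernel

theorem lt_ok : r5 < 2 ^ 162 ∧ r17 < 2 ^ 162 ∧ cA < 2 ^ 162 ∧ zc < 2 ^ 162 ∧ oneC < 2 ^ 162 := by decide +kernel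

theorem ne_ok : r5 ≠ oneC ∧ r17 ≠ oneC ∧ cA ≠ oneC ∧ zc ≠ oneC := by decide +kernel

theorem zc_comm : Nat.beq (mm zc cA) (mm cA zc) = true ∧ Nat.beq (mm zc cB) (mm cB zc) = true := by decide +kernel

/-! ### Tables of subgroups -/

/-- The check of a row of a table of `n` elements. -/
def rowTOK (big n wr mr g r i : Nat) : Bool :=
  frc (get wr mr r i) fun i' => Nat.blt i' n && Nat.beq (mm g (tb big i)) (tb big i')

/-- The depth in a table tree. -/
def dT (wt mt sh tr i : Nat) : Nat := Nat.shiftRight (get wt mt tr i) sh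
/-- The parent in a table tree. -/
def pT (wt mt mp tr i : Nat) : Nat := Nat.land (get wt mt tr i) mp
/-- The letter in a table tree. -/
def sT (wt mt mp sp tr i : Nat) : Nat := Nat.land (Nat.shiftRight (get wt mt tr i) sp) mp

/-- The check of a table tree. -/
def treeTOK (big n wr mr wt mt sh mp sp ms tr : Nat) (rows : Nat → Nat) (i : Nat) : Bool :=
  Nat.rec (Nat.beq (tb big i) oneC)
    (fun _ _ => Nat.blt (pT wt mt mp tr i) n && Nat.blt (dT wt mt sh tr (pT wt mt mp tr i)) (dT wt mt sh tr i) &&
      Nat.beq (get wr mr (rows (sT wt mt ms sp tr i)) (pT wt mt mp tr i)) i)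
    (dT wt mt sh tr i)

/-- The check that a table is increasing. -/
def sortOK (big i : Nat) : Bool := Nat.blt (tb big i) (tb big (Nat.succ i))

/-- The rows of `P3`. -/
def r3g (s : Nat) : Nat := Nat.rec r3a (fun _ _ => r3b) s
/-- The rows of `P2`. -/
def r2xg (s : Nat) : Nat := Nat.rec r2xa (fun n _ => Nat.rec r2xb (fun _ _ => r2xc) n) s

theorem row3a_ok : allB (rowTOK P3big 729 10 1023 p3a r3a) 729 = true := by decide +kernel
theorem row3b_ok : allB (rowTOK P3big 729 10 1023 p3b r3b) 729 = true := by decide +kernel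
theorem tree3_ok : allB (treeTOK P3big 729 10 1023 16 65535 11 1023 10 1 tr3 r3g) 729 = true := by decide +kernel
theorem sort3_ok : allB (sortOK P3big) 728 = true := by decide +kernel
theorem root3_ok : tb P3big root3 = oneC ∧ root3 < 729 := by decide +kernel

theorem row2xa_ok : allB (rowTOK P2big 128 8 255 p2a r2xa) 128 = true := by decide +kernel
theorem row2xb_ok : allB (rowTOK P2big 128 8 255 p2b r2xb) 128 = true := by decide +kernel
theorem row2xc_ok : allB (rowTOK P2big 128 8 255 p2c r2xc) 128 = true := by decide +kernel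
theorem tree2x_ok : allB (treeTOK P2big 128 8 255 14 16383 10 255 8 3 tr2x r2xg) 128 = true := by decide +kernel
theorem sort2x_ok : allB (sortOK P2big) 127 = true := by decide +kernel
theorem root2x_ok : tb P2big root2x = oneC ∧ root2x < 128 := by decide +kernel

end Cfsg.Agent.Lib.Compute.J3.Check
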