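import Mathlib

/-!
# Packed `9 × 9` matrices over a field with four elements

A matrix is one natural number: 2 bits per entry, 18 bits per row.  `mm` multiplies two of them using only `Nat`
operations that the kernel evaluates with GMP.  `dec` decodes to matrices over any field `F` of characteristic 2 with a
root `ω` of `X² + X + 1`, and `dec_mm` says that `mm` is the matrix product.
-/

set_option autoImplicit false

namespace Cfsg.Agent.Lib.Compute.J3.F4Mat

/-- Force the evaluation of a number. -/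
def frc {α : Type} (v : Nat) (f : Nat → α) : α := Nat.rec (f 0) (fun n _ => f (Nat.succ n)) v

@[simp] theorem frc_eq {α : Type} (v : Nat) (f : Nat → α) : frc v f = f v := by
  cases v <;> rfl

/-- The even bits of a row. -/
def maskL : Nat := 0x15555
/-- The bits of a row. -/
def rowM : Nat := 0x3FFFF

/-- `ω` times a row. -/
def wr (r : Nat) : Nat :=
  Nat.lor (Nat.land (Nat.shiftRight r 1) maskL)
    (Nat.shiftLeft (Nat.land (Nat.xor r (Nat.shiftRight r 1)) maskL) 1)

/-- The row at bit offset `s`. -/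
def rw (c s : Nat) : Nat := Nat.land (Nat.shiftRight c s) rowM

/-- The multiples `0, r, ωr, ω²r` of a row, given `w = ωr`. -/
def grp2 (r w : Nat) : Nat :=
  Nat.lor (Nat.shiftLeft r 18) (Nat.lor (Nat.shiftLeft w 36) (Nat.shiftLeft (Nat.xor r w) 54))

/-- The multiples `0, r, ωr, ω²r` of a row. -/
def grp (r : Nat) : Nat := frc (wr r) (grp2 r)

/-- The entry of `x` at bit `s` times the row with multiples `g`. -/
def tm (g x s : Nat) : Nat :=
  Nat.land (Nat.shiftRight g (Nat.mul (Nat.land (Nat.shiftRight x s) 3) 18)) rowM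

/-- A row times the matrix with rows of multiples `g0, …, g8`. -/
def rowP (g0 g1 g2 g3 g4 g5 g6 g7 g8 x : Nat) : Nat :=
  Nat.xor (tm g0 x 0) <| Nat.xor (tm g1 x 2) <| Nat.xor (tm g2 x 4) <| Nat.xor (tm g3 x 6) <|
  Nat.xor (tm g4 x 8) <| Nat.xor (tm g5 x 10) <| Nat.xor (tm g6 x 12) <| Nat.xor (tm g7 x 14) (tm g8 x 16)

/-- Put a row below the others. -/
def pk (x y : Nat) : Nat := Nat.lor x (Nat.shiftLeft y 18)

/-- The product given the multiples of the rows of the right factor. -/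
def mm3 (a g0 g1 g2 g3 g4 g5 g6 g7 g8 : Nat) : Nat :=
  pk (rowP g0 g1 g2 g3 g4 g5 g6 g7 g8 (rw a 0)) <| pk (rowP g0 g1 g2 g3 g4 g5 g6 g7 g8 (rw a 18)) <|
  pk (rowP g0 g1 g2 g3 g4 g5 g6 g7 g8 (rw a 36)) <| pk (rowP g0 g1 g2 g3 g4 g5 g6 g7 g8 (rw a 54)) <|
  pk (rowP g0 g1 g2 g3 g4 g5 g6 g7 g8 (rw a 72)) <| pk (rowP g0 g1 g2 g3 g4 g5 g6 g7 g8 (rw a 90)) <|
  pk (rowP g0 g1 g2 g3 g4 g5 g6 g7 g8 (rw a 108)) <| pk (rowP g0 g1 g2 g3 g4 g5 g6 g7 g8 (rw a 126)) <|
  rowP g0 g1 g2 g3 g4 g5 g6 g7 g8 (rw a 144)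

/-- The product of packed matrices. -/
def mm (a b : Nat) : Nat :=
  frc (grp (rw b 0)) fun g0 => frc (grp (rw b 18)) fun g1 => frc (grp (rw b 36)) fun g2 =>
  frc (grp (rw b 54)) fun g3 => frc (grp (rw b 72)) fun g4 => frc (grp (rw b 90)) fun g5 =>
  frc (grp (rw b 108)) fun g6 => frc (grp (rw b 126)) fun g7 => frc (grp (rw b 144)) fun g8 =>
  mm3 a g0 g1 g2 g3 g4 g5 g6 g7 g8

/-! ### Bits -/

theorem testBit_rowM (j : Nat) : rowM.testBit j = decide (j < 18) := by
  have : rowM = 2 ^ 18 - 1 := by decide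
  rw [this, Nat.testBit_two_pow_sub_one]

theorem rw_lt (c s : Nat) : rw c s < 2 ^ 18 := by
  have h : Nat.land (Nat.shiftRight c s) rowM ≤ rowM := Nat.and_le_right
  have h2 : rowM < 2 ^ 18 := by decide
  exact lt_of_le_of_lt h h2

theorem testBit_rw (c s j : Nat) : (rw c s).testBit j = (decide (j < 18) && c.testBit (s + j)) := by
  show (Nat.land (Nat.shiftRight c s) rowM).testBit j = _
  show ((c >>> s) &&& rowM).testBit j = _
  rw [Nat.testBit_land, Nat.testBit_shiftRight, testBit_rowM, Bool.and_comm]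

theorem wr_lt (r : Nat) : wr r < 2 ^ 18 := by
  show ((r >>> 1 &&& maskL) ||| (((r ^^^ (r >>> 1)) &&& maskL) <<< 1)) < 2 ^ 18
  have h1 : (r >>> 1 &&& maskL) ≤ maskL := Nat.and_le_right
  have h2 : ((r ^^^ (r >>> 1)) &&& maskL) ≤ maskL := Nat.and_le_right
  have h3 : maskL = 87381 := by decide
  apply Nat.or_lt_two_pow
  · omega
  · rw [Nat.shiftLeft_eq]
    omega

theorem testBit_maskL {j : Nat} (hj : j < 18) : maskL.testBit j = decide (j % 2 = 0) := by
  revert j
  decide

theorem bit_wr_even (r : Nat) {t : Nat} (ht : t < 9) : (wr r).testBit (2 * t) = r.testBit (2 * t + 1) := by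
  show ((r >>> 1 &&& maskL) ||| (((r ^^^ (r >>> 1)) &&& maskL) <<< 1)).testBit (2 * t) = _
  rw [Nat.testBit_or, Nat.testBit_and, Nat.testBit_shiftRight, testBit_maskL (by omega), Nat.testBit_shiftLeft]
  have h0 : (2 * t) % 2 = 0 := by omega
  have h1 : (decide (2 * t ≥ 1) && (((r ^^^ (r >>> 1)) &&& maskL).testBit (2 * t - 1))) = false := by
    rcases Nat.eq_zero_or_pos t with h | h
    · subst h
      simp
    · rw [Nat.testBit_and, testBit_maskL (by omega)]
      have : (2 * t - 1) % 2 ≠ 0 := by omega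
      simp [this]
  rw [h1, h0, add_comm 1]
  simp

theorem bit_wr_odd (r : Nat) {t : Nat} (ht : t < 9) :
    (wr r).testBit (2 * t + 1) = (r.testBit (2 * t) ^^ r.testBit (2 * t + 1)) := by
  show ((r >>> 1 &&& maskL) ||| (((r ^^^ (r >>> 1)) &&& maskL) <<< 1)).testBit (2 * t + 1) = _
  rw [Nat.testBit_or, Nat.testBit_and, testBit_maskL (by omega), Nat.testBit_shiftLeft, Nat.testBit_and,
    Nat.testBit_xor, Nat.testBit_shiftRight, testBit_maskL (by omega)]
  have h0 : (2 * t + 1) % 2 ≠ 0 := by omega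
  have h1 : (2 * t + 1 - 1) % 2 = 0 := by omega
  have h2 : 2 * t + 1 - 1 = 2 * t := by omega
  rw [h2] at *
  simp [h0, h1, add_comm 1]

section Sem

variable {F : Type*} [Field F] (ω : F)

/-- The field element with the given two bits. -/
def mkE (b0 b1 : Bool) : F := (if b0 then 1 else 0) + (if b1 then ω else 0)

/-- An entry of a row as a field element. -/
def dR (r t : Nat) : F := mkE ω (r.testBit (2 * t)) (r.testBit (2 * t + 1))

/-- The decoding of a packed matrix. -/
def dec (c : Nat) : Matrix (Fin 9) (Fin 9) F :=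
  fun i t => mkE ω (c.testBit (18 * (i : Nat) + 2 * (t : Nat))) (c.testBit (18 * (i : Nat) + 2 * (t : Nat) + 1))

variable [CharP F 2]

theorem ite_xor (a c : Bool) : (if (a ^^ c) then (1 : F) else 0) = (if a then 1 else 0) + (if c then 1 else 0) := by
  cases a <;> cases c <;> simp [CharTwo.add_self_eq_zero]

theorem mkE_xor (a b c d : Bool) : mkE ω (a ^^ c) (b ^^ d) = mkE ω a b + mkE ω c d := by
  have h : ∀ (x y : Bool), (if x then ω else 0) = (if x then (1 : F) else 0) * ω := by
    intro x y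
    cases x <;> simp
  unfold mkE
  rw [h (b ^^ d) true, h b true, h d true, ite_xor, ite_xor]
  ring

theorem dR_xor (x y t : Nat) : dR ω (Nat.xor x y) t = dR ω x t + dR ω y t := by
  show dR ω (x ^^^ y) t = _
  unfold dR
  rw [Nat.testBit_xor, Nat.testBit_xor, mkE_xor]

variable {ω} (hω : ω * ω = ω + 1)
include hω

theorem mkE_omega (a b : Bool) : mkE ω b (a ^^ b) = ω * mkE ω a b := by
  have h : ∀ (x : Bool), (if x then ω else 0) = (if x then (1 : F) else 0) * ω := by
    intro x
    cases x <;> simp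
  unfold mkE
  rw [h (a ^^ b), h b, ite_xor]
  linear_combination (-(if b then (1 : F) else 0)) * hω

theorem dR_wr (r : Nat) {t : Nat} (ht : t < 9) : dR ω (wr r) t = ω * dR ω r t := by
  unfold dR
  rw [bit_wr_even r ht, bit_wr_odd r ht, mkE_omega hω]

omit hω in
theorem xor_lt18 {x y : Nat} (hx : x < 2 ^ 18) (hy : y < 2 ^ 18) : Nat.xor x y < 2 ^ 18 :=
  Nat.xor_lt_two_pow hx hy

omit hω [CharP F 2] in
theorem testBit_false_of_lt {x : Nat} (hx : x < 2 ^ 18) {k : Nat} (hk : 18 ≤ k) : x.testBit k = false :=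
  Nat.testBit_lt_two_pow (lt_of_lt_of_le hx (Nat.pow_le_pow_right (by norm_num) hk))

end Sem

theorem testBit_grp2 {r w : Nat} (hr : r < 2 ^ 18) (hw : w < 2 ^ 18) (j : Nat) :
    (grp2 r w).testBit j =
      if j < 18 then false else if j < 36 then r.testBit (j - 18) else if j < 54 then w.testBit (j - 36)
      else (r.testBit (j - 54) ^^ w.testBit (j - 54)) := by
  show ((r <<< 18) ||| ((w <<< 36) ||| ((r ^^^ w) <<< 54))).testBit j = _
  simp only [Nat.testBit_or, Nat.testBit_shiftLeft, Nat.testBit_xor]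
  have hr' : ∀ k, 18 ≤ k → r.testBit k = false := fun k hk =>
    Nat.testBit_lt_two_pow (lt_of_lt_of_le hr (Nat.pow_le_pow_right (by norm_num) hk))
  have hw' : ∀ k, 18 ≤ k → w.testBit k = false := fun k hk =>
    Nat.testBit_lt_two_pow (lt_of_lt_of_le hw (Nat.pow_le_pow_right (by norm_num) hk))
  split_ifs with h1 h2 h3
  · have a1 : ¬ j ≥ 18 := by omega
    have a2 : ¬ j ≥ 36 := by omega
    have a3 : ¬ j ≥ 54 := by omega
    simp [a1, a2, a3]
  · have a1 : j ≥ 18 := by omega
    have a2 : ¬ j ≥ 36 := by omega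
    have a3 : ¬ j ≥ 54 := by omega
    simp [a1, a2, a3]
  · have a1 : j ≥ 18 := by omega
    have a2 : j ≥ 36 := by omega
    have a3 : ¬ j ≥ 54 := by omega
    simp [a1, a2, a3, hr' (j - 18) (by omega)]
  · have a1 : j ≥ 18 := by omega
    have a2 : j ≥ 36 := by omega
    have a3 : j ≥ 54 := by omega
    simp [a1, a2, a3, hr' (j - 18) (by omega), hw' (j - 36) (by omega)]

theorem land3 (y : Nat) : Nat.land y 3 = (y.testBit 0).toNat + 2 * (y.testBit 1).toNat := by
  have h : Nat.land y 3 = y % 4 := by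
    show y &&& 3 = y % 4
    exact Nat.and_two_pow_sub_one_eq_mod y 2
  rw [h, Nat.testBit_zero, show (1 : Nat) = 0 + 1 from rfl, Nat.testBit_succ, Nat.testBit_zero]
  by_cases h1 : y % 2 = 1 <;> by_cases h2 : y / 2 % 2 = 1 <;> simp [h1, h2] <;> omega

/-- The field of a group of multiples selected by two bits. -/
theorem land_grp2 {r w : Nat} (hr : r < 2 ^ 18) (hw : w < 2 ^ 18) (b0 b1 : Bool) :
    Nat.land (Nat.shiftRight (grp2 r w) (Nat.mul (b0.toNat + 2 * b1.toNat) 18)) rowM =
      match b0, b1 with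
      | false, false => 0
      | true, false => r
      | false, true => w
      | true, true => Nat.xor r w := by
  apply Nat.eq_of_testBit_eq
  intro j
  show ((grp2 r w >>> (Nat.mul (b0.toNat + 2 * b1.toNat) 18)) &&& rowM).testBit j = _
  rw [Nat.testBit_and, Nat.testBit_shiftRight, testBit_rowM, testBit_grp2 hr hw]
  by_cases hj : j < 18
  · cases b0 <;> cases b1
    · have a1 : Nat.mul (false.toNat + 2 * false.toNat) 18 + j = j := by simp
      rw [a1]
      simp [hj]
    · have a1 : Nat.mul (false.toNat + 2 * true.toNat) 18 + j = j + 36 := by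
        simp only [Bool.toNat_false, Bool.toNat_true]
        show 36 + j = j + 36
        omega
      have a2 : ¬ j + 36 < 18 := by omega
      have a3 : ¬ j + 36 < 36 := by omega
      have a4 : j + 36 < 54 := by omega
      rw [a1, if_neg a2, if_neg a3, if_pos a4]
      simp [hj]
    · have a1 : Nat.mul (true.toNat + 2 * false.toNat) 18 + j = j + 18 := by
        simp only [Bool.toNat_false, Bool.toNat_true]
        show 18 + j = j + 18
        omega
      have a2 : ¬ j + 18 < 18 := by omega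
      have a3 : j + 18 < 36 := by omega
      rw [a1, if_neg a2, if_pos a3]
      simp [hj]
    · have a1 : Nat.mul (true.toNat + 2 * true.toNat) 18 + j = j + 54 := by
        simp only [Bool.toNat_false, Bool.toNat_true]
        show 54 + j = j + 54
        omega
      have a2 : ¬ j + 54 < 18 := by omega
      have a3 : ¬ j + 54 < 36 := by omega
      have a4 : ¬ j + 54 < 54 := by omega
      have a5 : (Nat.xor r w).testBit j = (r.testBit j ^^ w.testBit j) := Nat.testBit_xor r w j
      rw [a1, if_neg a2, if_neg a3, if_neg a4]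
      simp [hj, a5]
  · have hr' : r.testBit j = false := Nat.testBit_lt_two_pow (lt_of_lt_of_le hr (Nat.pow_le_pow_right (by norm_num) (by omega)))
    have hw' : w.testBit j = false := Nat.testBit_lt_two_pow (lt_of_lt_of_le hw (Nat.pow_le_pow_right (by norm_num) (by omega)))
    have a5 : (Nat.xor r w).testBit j = (r.testBit j ^^ w.testBit j) := Nat.testBit_xor r w j
    cases b0 <;> cases b1 <;> simp [hj, hr', hw', a5]

theorem tm_grp {r : Nat} (hr : r < 2 ^ 18) (x s : Nat) :
    tm (grp r) x s =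
      match x.testBit s, x.testBit (s + 1) with
      | false, false => 0
      | true, false => r
      | false, true => wr r
      | true, true => Nat.xor r (wr r) := by
  unfold tm grp
  rw [frc_eq, land3]
  have h0 : (Nat.shiftRight x s).testBit 0 = x.testBit s := by
    show (x >>> s).testBit 0 = _
    simp [Nat.testBit_shiftRight]
  have h1 : (Nat.shiftRight x s).testBit 1 = x.testBit (s + 1) := by
    show (x >>> s).testBit 1 = _
    simp [Nat.testBit_shiftRight]
  rw [h0, h1]
  exact land_grp2 hr (wr_lt r) _ _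

theorem tm_lt (g x s : Nat) : tm g x s < 2 ^ 18 :=
  rw_lt g _

section Sem2

variable {F : Type*} [Field F] {ω : F} [CharP F 2] (hω : ω * ω = ω + 1)
include hω

theorem dR_tm {r : Nat} (hr : r < 2 ^ 18) (x s : Nat) {t : Nat} (ht : t < 9) :
    dR ω (tm (grp r) x s) t = mkE ω (x.testBit s) (x.testBit (s + 1)) * dR ω r t := by
  rw [tm_grp hr]
  cases x.testBit s <;> cases x.testBit (s + 1)
  · simp [mkE, dR]
  · show dR ω (wr r) t = _
    rw [dR_wr hω r ht]
    simp [mkE]
  · simp [mkE]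
  · show dR ω (Nat.xor r (wr r)) t = _
    rw [dR_xor, dR_wr hω r ht]
    simp only [mkE, if_true]
    ring

end Sem2

/-! ### Packing -/

/-- Iterated `pk`. -/
def pkL : List Nat → Nat
  | [] => 0
  | [x] => x
  | x :: l => pk x (pkL l)

theorem pk_testBit {x : Nat} (hx : x < 2 ^ 18) (y j : Nat) :
    (pk x y).testBit j = if j < 18 then x.testBit j else y.testBit (j - 18) := by
  show (x ||| (y <<< 18)).testBit j = _
  rw [Nat.testBit_or, Nat.testBit_shiftLeft]
  split_ifs with h
  · have : ¬ j ≥ 18 := by omega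
    simp [this]
  · have a1 : j ≥ 18 := by omega
    have a2 : x.testBit j = false := Nat.testBit_lt_two_pow (lt_of_lt_of_le hx (Nat.pow_le_pow_right (by norm_num) a1))
    simp [a1, a2]

theorem pkL_testBit : ∀ (l : List Nat), (∀ x ∈ l, x < 2 ^ 18) → ∀ (i : Nat), i < l.length → ∀ j, j < 18 →
    (pkL l).testBit (18 * i + j) = (l.getD i 0).testBit j := by
  intro l
  induction l with
  | nil => intro _ i hi; simp at hi
  | cons x l ih =>
    intro hl i hi j hj
    cases l with
    | nil =>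
      simp only [List.length_cons, List.length_nil, zero_add, Nat.lt_one_iff] at hi
      subst hi
      simp [pkL]
    | cons y l' =>
      have hx : x < 2 ^ 18 := hl x (List.mem_cons_self)
      show (pk x (pkL (y :: l'))).testBit _ = _
      rw [pk_testBit hx]
      cases i with
      | zero => simp [hj]
      | succ i =>
        have h1 : ¬ 18 * (i + 1) + j < 18 := by omega
        have h2 : 18 * (i + 1) + j - 18 = 18 * i + j := by omega
        rw [if_neg h1, h2, ih (fun z hz => hl z (List.mem_cons_of_mem _ hz)) i (by simpa using hi) j hj]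
        simp

/-- The rows of the result of `mm3`. -/
theorem mm3_eq (a g0 g1 g2 g3 g4 g5 g6 g7 g8 : Nat) :
    mm3 a g0 g1 g2 g3 g4 g5 g6 g7 g8 =
      pkL ((List.range 9).map fun i => rowP g0 g1 g2 g3 g4 g5 g6 g7 g8 (rw a (18 * i))) := rfl

theorem rowP_lt (g0 g1 g2 g3 g4 g5 g6 g7 g8 x : Nat) : rowP g0 g1 g2 g3 g4 g5 g6 g7 g8 x < 2 ^ 18 := by
  unfold rowP
  have h : ∀ g s, tm g x s < 2 ^ 18 := fun g s => tm_lt g x s
  repeat' apply Nat.xor_lt_two_pow
  all_goals exact h _ _

section Main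

variable {F : Type*} [Field F] {ω : F} [CharP F 2] (hω : ω * ω = ω + 1)
include hω

theorem dR_rowP {r0 r1 r2 r3 r4 r5 r6 r7 r8 : Nat} (h0 : r0 < 2 ^ 18) (h1 : r1 < 2 ^ 18) (h2 : r2 < 2 ^ 18)
    (h3 : r3 < 2 ^ 18) (h4 : r4 < 2 ^ 18) (h5 : r5 < 2 ^ 18) (h6 : r6 < 2 ^ 18) (h7 : r7 < 2 ^ 18)
    (h8 : r8 < 2 ^ 18) (x : Nat) {t : Nat} (ht : t < 9) :
    dR ω (rowP (grp r0) (grp r1) (grp r2) (grp r3) (grp r4) (grp r5) (grp r6) (grp r7) (grp r8) x) t =
      dR ω x 0 * dR ω r0 t + (dR ω x 1 * dR ω r1 t + (dR ω x 2 * dR ω r2 t + (dR ω x 3 * dR ω r3 t +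
        (dR ω x 4 * dR ω r4 t + (dR ω x 5 * dR ω r5 t + (dR ω x 6 * dR ω r6 t + (dR ω x 7 * dR ω r7 t +
        dR ω x 8 * dR ω r8 t))))))) := by
  unfold rowP
  simp only [dR_xor, dR_tm hω h0 x _ ht, dR_tm hω h1 x _ ht, dR_tm hω h2 x _ ht, dR_tm hω h3 x _ ht,
    dR_tm hω h4 x _ ht, dR_tm hω h5 x _ ht, dR_tm hω h6 x _ ht, dR_tm hω h7 x _ ht, dR_tm hω h8 x _ ht]
  rfl

omit hω [CharP F 2] in
theorem dec_eq_dR (c : Nat) (i t : Fin 9) : dec ω c i t = dR ω (rw c (18 * (i : Nat))) (t : Nat) := by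
  unfold dec dR
  have ht := t.2
  rw [testBit_rw, testBit_rw]
  have a1 : 2 * (t : Nat) < 18 := by omega
  have a2 : 2 * (t : Nat) + 1 < 18 := by omega
  simp only [a1, a2, decide_true, Bool.true_and]
  rfl

theorem dec_mm (a b : Nat) : dec ω (mm a b) = dec ω a * dec ω b := by
  ext i t
  have hl : ∀ k : Fin 9, dec ω a i k = dR ω (rw a (18 * (i : Nat))) (k : Nat) := fun k => dec_eq_dR a i k
  have hr : ∀ k : Fin 9, dec ω b k t = dR ω (rw b (18 * (k : Nat))) (t : Nat) := fun k => dec_eq_dR b k t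
  rw [Matrix.mul_apply, Fin.sum_univ_succ, Fin.sum_univ_eight]
  simp only [hl, hr]
  have hmm : mm a b = mm3 a (grp (rw b 0)) (grp (rw b 18)) (grp (rw b 36)) (grp (rw b 54)) (grp (rw b 72))
      (grp (rw b 90)) (grp (rw b 108)) (grp (rw b 126)) (grp (rw b 144)) := by
    simp only [mm, frc_eq]
  have hlt : ∀ x ∈ (List.range 9).map fun i => rowP (grp (rw b 0)) (grp (rw b 18)) (grp (rw b 36))
      (grp (rw b 54)) (grp (rw b 72)) (grp (rw b 90)) (grp (rw b 108)) (grp (rw b 126)) (grp (rw b 144))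
      (rw a (18 * i)), x < 2 ^ 18 := by
    intro x hx
    obtain ⟨k, _, rfl⟩ := List.mem_map.mp hx
    exact rowP_lt _ _ _ _ _ _ _ _ _ _
  have hbits : ∀ j, j < 18 → (mm a b).testBit (18 * (i : Nat) + j) =
      (rowP (grp (rw b 0)) (grp (rw b 18)) (grp (rw b 36)) (grp (rw b 54)) (grp (rw b 72)) (grp (rw b 90))
        (grp (rw b 108)) (grp (rw b 126)) (grp (rw b 144)) (rw a (18 * (i : Nat)))).testBit j := by
    intro j hj
    rw [hmm, mm3_eq, pkL_testBit _ hlt (i : Nat) (by simp) j hj]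
    congr 1
    simp [List.getD_eq_getElem?_getD, i.2]
  have ht := t.2
  have h1 := hbits (2 * (t : Nat)) (by omega)
  have h2 := hbits (2 * (t : Nat) + 1) (by omega)
  have hdec : dec ω (mm a b) i t = dR ω (rowP (grp (rw b 0)) (grp (rw b 18)) (grp (rw b 36)) (grp (rw b 54))
      (grp (rw b 72)) (grp (rw b 90)) (grp (rw b 108)) (grp (rw b 126)) (grp (rw b 144))
      (rw a (18 * (i : Nat)))) (t : Nat) := by
    unfold dec dR
    rw [h1, add_assoc, h2]
  rw [hdec, dR_rowP hω (rw_lt _ _) (rw_lt _ _) (rw_lt _ _) (rw_lt _ _) (rw_lt _ _) (rw_lt _ _) (rw_lt _ _)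
    (rw_lt _ _) (rw_lt _ _) _ ht]
  simp [add_assoc]

end Main

/-- The code of the identity matrix. -/
def oneC : Nat := 1461503031128807055631067903726780805968804446209

theorem testBit_oneC : ∀ i t : Fin 9, oneC.testBit (18 * (i : Nat) + 2 * (t : Nat)) = decide (i = t) ∧
    oneC.testBit (18 * (i : Nat) + 2 * (t : Nat) + 1) = false := by
  decide +kernel

section One

variable {F : Type*} [Field F] {ω : F}

theorem dec_one : dec ω oneC = (1 : Matrix (Fin 9) (Fin 9) F) := by
  ext i t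
  unfold dec
  rw [(testBit_oneC i t).1, (testBit_oneC i t).2, Matrix.one_apply]
  by_cases h : i = t <;> simp [mkE, h]

end One

end Cfsg.Agent.Lib.Compute.J3.F4Mat
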