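import Cfsg.Agent.Lib.Compute.J3.Main
import Cfsg.Prelude.Def_Spor_J3

/-!
# The triple cover of `J₃` over a field with four elements

The generators of the definition are decoded from the packed matrices, and the chain theorem applies to `threeJ3 F ω`.
-/

set_option autoImplicit false

namespace Cfsg.Agent.Lib.Compute.J3.Inst

open scoped MatrixGroups
open Cfsg.Spor
open Cfsg.Agent.Lib.Compute.J3.Data Cfsg.Agent.Lib.Compute.J3.F4Mat
open Cfsg.Agent.Lib.Compute.J3.Check Cfsg.Agent.Lib.Compute.J3.Main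

/-! ### The field -/

section Field

variable {F : Type*} [Field F]

theorem charP_of_card [Fintype F] (hF : Fintype.card F = 4) : CharP F 2 := by
  have h4 : ((Fintype.card F : ℕ) : F) = 0 := FiniteField.cast_card_eq_zero F
  rw [hF] at h4
  have h2 : (2 : F) = 0 := by
    have h5 : (2 : F) * 2 = 0 := by
      have : ((4 : ℕ) : F) = 2 * 2 := by norm_num
      rw [← this, h4]
    exact (mul_self_eq_zero.mp h5)
  exact CharTwo.of_one_ne_zero_of_two_eq_zero one_ne_zero h2

variable {ω : F}

theorem omega_sq [CharP F 2] (hω : ω ^ 2 + ω + 1 = 0) : ω * ω = ω + 1 := by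
  have h : ω * ω + (ω + 1) = 0 := by
    rw [← hω]
    ring
  exact CharTwo.add_eq_zero.mp h

theorem omega_ne_zero [CharP F 2] (hω : ω ^ 2 + ω + 1 = 0) : ω ≠ 0 := by
  rintro rfl
  simp at hω

theorem omega_ne_one [CharP F 2] (hω : ω ^ 2 + ω + 1 = 0) : ω ≠ 1 := by
  rintro rfl
  have h : (1 : F) + 1 = 0 := CharTwo.add_self_eq_zero 1
  have h2 : (1 : F) ^ 2 + 1 + 1 = 1 := by
    rw [one_pow, add_assoc, h, add_zero]
  rw [h2] at hω
  exact one_ne_zero hω

variable (hω0 : ω ≠ 0) (hω1 : ω ≠ 1)

include hω0 hω1 in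
theorem mkE_inj [CharP F 2] {a b c d : Bool} (h : mkE ω a b = mkE ω c d) : a = c ∧ b = d := by
  have h1 : (1 : F) + ω ≠ 0 := by
    intro h2
    apply hω1
    exact (CharTwo.add_eq_zero.mp h2).symm
  have h2 : (1 : F) + ω ≠ 1 := by
    intro h3
    apply hω0
    have : (1 : F) + ω = 1 + 0 := by rw [h3, add_zero]
    exact add_left_cancel this
  have h3 : (1 : F) + ω ≠ ω := by
    intro h3
    apply one_ne_zero (α := F)
    have : (1 : F) + ω = 0 + ω := by rw [h3, zero_add]
    exact add_right_cancel this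
  cases a <;> cases b <;> cases c <;> cases d <;> simp [mkE] at h ⊢ <;>
    first
      | exact absurd h hω0
      | exact absurd h.symm hω0
      | exact absurd h hω1
      | exact absurd h.symm hω1
      | exact absurd h h1
      | exact absurd h.symm h1

include hω0 hω1 in
theorem dec_inj [CharP F 2] (a b : ℕ) (ha : a < 2 ^ 162) (hb : b < 2 ^ 162) (h : dec ω a = dec ω b) : a = b := by
  apply Nat.eq_of_testBit_eq
  intro j
  by_cases hj : j < 162
  · have hi : j / 18 < 9 := by omega
    have ht : (j % 18) / 2 < 9 := by omega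
    have h1 := congrFun (congrFun h ⟨j / 18, hi⟩) ⟨(j % 18) / 2, ht⟩
    obtain ⟨h2, h3⟩ := mkE_inj hω0 hω1 h1
    by_cases hp : j % 2 = 0
    · have e : 18 * (j / 18) + 2 * ((j % 18) / 2) = j := by omega
      simp only [e] at h2
      exact h2
    · have e : 18 * (j / 18) + 2 * ((j % 18) / 2) + 1 = j := by omega
      simp only [e] at h3
      exact h3
  · have h2 : 2 ^ 162 ≤ 2 ^ j := Nat.pow_le_pow_right (by norm_num) (by omega)
    rw [Nat.testBit_lt_two_pow (lt_of_lt_of_le ha h2), Nat.testBit_lt_two_pow (lt_of_lt_of_le hb h2)]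

end Field

/-! ### Digits -/

/-- A digit of a packed matrix. -/
def digit (c i t : ℕ) : ℕ := Nat.land (Nat.shiftRight c (18 * i + 2 * t)) 3

section Digits

variable {F : Type*} [Field F] (ω : F)

/-- The value of a digit. -/
def valD (n : ℕ) : F := mkE ω (n.testBit 0) (n.testBit 1)

theorem dec_digit (c : ℕ) (i t : Fin 9) : dec ω c i t = valD ω (digit c i t) := by
  unfold dec valD digit
  have e1 : Nat.land (Nat.shiftRight c (18 * (i : ℕ) + 2 * (t : ℕ))) 3 = (c >>> (18 * (i : ℕ) + 2 * (t : ℕ))) &&& 3 := rfl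
  rw [e1]
  congr 1
  · rw [Nat.testBit_and, Nat.testBit_shiftRight]
    simp
  · rw [Nat.testBit_and, Nat.testBit_shiftRight]
    have : (3 : ℕ).testBit 1 = true := by decide
    simp only [this, Bool.and_true]

@[simp] theorem valD_zero : valD ω 0 = 0 := by simp [valD, mkE]
@[simp] theorem valD_one : valD ω 1 = 1 := by
  have e0 : (1 : ℕ).testBit 0 = true := by decide
  have e1 : (1 : ℕ).testBit 1 = false := by decide
  simp only [valD, mkE, e0, e1]
  simp
@[simp] theorem valD_two : valD ω 2 = ω := by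
  have e0 : (2 : ℕ).testBit 0 = false := by decide
  have e1 : (2 : ℕ).testBit 1 = true := by decide
  simp only [valD, mkE, e0, e1]
  simp

variable {ω}

@[simp] theorem valD_three (h : ω * ω = ω + 1) : valD ω 3 = ω ^ 2 := by
  have e1 : (3 : ℕ).testBit 0 = true := by decide
  have e2 : (3 : ℕ).testBit 1 = true := by decide
  simp only [valD, mkE, e1, e2, if_true]
  rw [pow_two, h, add_comm]

end Digits

/-! ### The index set -/

/-- The position of an element of the index set. -/
def idx (z : F9) : ℕ := z.1.val + 3 * z.2.val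

theorem idx_lt (z : F9) : idx z < 9 := by
  have h1 : z.1.val < 3 := z.1.val_lt
  have h2 : z.2.val < 3 := z.2.val_lt
  unfold idx
  omega

/-- The numbering of the index set. -/
def eF9 : F9 ≃ Fin 9 where
  toFun z := ⟨idx z, idx_lt z⟩
  invFun i := (((i.val % 3 : ℕ) : ZMod 3), ((i.val / 3 : ℕ) : ZMod 3))
  left_inv := by decide +kernel
  right_inv := by decide +kernel

theorem idx_eF9_symm (i : Fin 9) : idx (eF9.symm i) = i := by
  have := eF9.apply_symm_apply i
  exact congrArg Fin.val this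

section Reindex

variable (F : Type*) [Field F]

/-- Matrices indexed by `F9` as matrices indexed by `Fin 9`. -/
def EE : Matrix F9 F9 F ≃* Matrix (Fin 9) (Fin 9) F where
  toFun M := M.submatrix eF9.symm eF9.symm
  invFun M := M.submatrix eF9 eF9
  left_inv M := by ext; simp
  right_inv M := by ext; simp
  map_mul' A B := (Matrix.submatrix_mul_equiv A B _ _ _).symm

variable {F}

theorem EE_eq_dec {ω : F} {M : Matrix F9 F9 F} {c : ℕ} (h : ∀ w z, M w z = valD ω (digit c (idx w) (idx z))) :
    EE F M = dec ω c := by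
  ext i t
  rw [dec_digit]
  show M (eF9.symm i) (eF9.symm t) = _
  rw [h, idx_eF9_symm, idx_eF9_symm]

/-- The embedding of `GL` to matrices over `Fin 9`. -/
def vGL : GL F9 F →* Matrix (Fin 9) (Fin 9) F :=
  (EE F).toMonoidHom.comp (Units.coeHom _)

theorem vGL_apply (g : GL F9 F) : vGL g = EE F (g : Matrix F9 F9 F) := rfl

theorem vGL_inj : Function.Injective (vGL (F := F)) := by
  intro a b h
  apply Units.ext
  exact (EE F).injective h

variable {ω : F}

/-- A unit from a matrix which is decoded from a packed matrix with a packed inverse. -/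
def mkU (M : Matrix F9 F9 F) {c ci : ℕ} [CharP F 2] (hω : ω * ω = ω + 1) (hM : EE F M = dec ω c) (h1 : mm c ci = oneC)
    (h2 : mm ci c = oneC) : GL F9 F where
  val := M
  inv := (EE F).symm (dec ω ci)
  val_inv := by
    apply (EE F).injective
    rw [map_mul, MulEquiv.apply_symm_apply, hM, ← dec_mm hω, h1, dec_one, map_one]
  inv_val := by
    apply (EE F).injective
    rw [map_mul, MulEquiv.apply_symm_apply, hM, ← dec_mm hω, h2, dec_one, map_one]

end Reindex

/-! ### The generators as digits -/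

/-- A power of `ω` as a digit. -/
def powD (n : ZMod 3) : ℕ := n.val + 1

/-- The digits of `A_Z`. -/
def dA (Z w z : F9) : ℕ := if w = z then powD (Z.1 * z.1 + Z.2 * z.2) else 0
/-- The digits of `E_Z`. -/
def dE (Z w z : F9) : ℕ := if w = z then powD ((Z.1 - z.1) ^ 2 + (Z.2 - z.2) ^ 2) else 0
/-- The digit of the coefficient of `D_Z`. -/
def dLam (Z z : F9) : ℕ :=
  if z = 0 then 1
  else if F9.div Z z = F9.I - F9.one then 2
  else if F9.div Z z = -F9.I - F9.one then 3
  else 1
/-- The digits of `D_Z`. -/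
def dD (Z w z : F9) : ℕ := if w = z + Z then dLam Z z else 0
/-- The digits of `B_Z`. -/
def dB (Z w z : F9) : ℕ := if w = F9.mul Z z then 1 else 0
/-- The digits of `C_Z`. -/
def dC (Z w z : F9) : ℕ :=
  if z = 0 then (if w = 0 then 1 else 0)
  else if w = -F9.div Z z ∨ w = F9.mul F9.I (F9.div Z z) ∨ w = -F9.mul F9.I (F9.div Z z) then 1 else 0

section Entries

variable {F : Type*} [Field F] {ω : F} (hω : ω * ω = ω + 1)

include hω in
theorem val_powD (n : ZMod 3) : valD ω (powD n) = omegaPow F ω n := by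
  unfold omegaPow powD
  have : ∀ n : ZMod 3, n.val = 0 ∨ n.val = 1 ∨ n.val = 2 := by decide
  rcases this n with h | h | h <;> rw [h]
  · simp
  · simp
  · exact valD_three hω

include hω in
theorem entry_A (Z w z : F9) : j3A F ω Z w z = valD ω (dA Z w z) := by
  unfold j3A dA
  rw [Matrix.diagonal_apply]
  split_ifs with h
  · subst h
    rw [val_powD hω]
  · simp

include hω in
theorem entry_E (Z w z : F9) : j3E F ω Z w z = valD ω (dE Z w z) := by
  unfold j3E dE
  rw [Matrix.diagonal_apply]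
  split_ifs with h
  · subst h
    rw [val_powD hω]
  · simp

include hω in
theorem entry_D (Z w z : F9) : j3D F ω Z w z = valD ω (dD Z w z) := by
  unfold j3D dD
  rw [Matrix.of_apply]
  split_ifs with h
  · unfold j3Lam dLam
    split_ifs with h1 h2 h3
    · simp
    · simp
    · rw [valD_three hω]
    · simp
  · simp

omit hω in
theorem entry_B (Z w z : F9) : j3B F Z w z = valD ω (dB Z w z) := by
  unfold j3B dB
  rw [Matrix.of_apply]
  split_ifs with h <;> simp

omit hω in
theorem entry_C (Z w z : F9) : j3C F Z w z = valD ω (dC Z w z) := by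
  unfold j3C dC
  rw [Matrix.of_apply]
  split_ifs with h h1 h2 <;> simp

end Entries

/-! ### The kernel checks on generators -/

/-- The code of a generator. -/
def gc (i : ℕ) : ℕ := genCodes.getD i 0
/-- The inverse code of a generator. -/
def gci (i : ℕ) : ℕ := genInvCodes.getD i 0

theorem chkA : ∀ Z w z : F9, dA Z w z = digit (gc (idx Z)) (idx w) (idx z) := by decide +kernel
theorem chkE : ∀ Z w z : F9, dE Z w z = digit (gc (9 + idx Z)) (idx w) (idx z) := by decide +kernel
theorem chkD : ∀ Z w z : F9, dD Z w z = digit (gc (18 + idx Z)) (idx w) (idx z) := by decide +kernel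
theorem chkB : ∀ Z w z : F9, Z ≠ 0 → dB Z w z = digit (gc (26 + idx Z)) (idx w) (idx z) := by decide +kernel
theorem chkC : ∀ Z w z : F9, Z ≠ 0 → dC Z w z = digit (gc (34 + idx Z)) (idx w) (idx z) := by decide +kernel

theorem idx_pos {Z : F9} (h : Z ≠ 0) : 1 ≤ idx Z := by
  revert Z
  decide

/-- The words of `A`, `B`. -/
theorem chk_wA : mm (gc 35) (mm (gc 25) (gc 24)) = cA := by decide +kernel
theorem chk_wB : mm (gc 9) (mm (gc 40) (gc 23)) = cB := by decide +kernel

/-- Positions of the generators in the list. -/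
theorem gc_len : genCodes.length = 43 := by decide +kernel

/-- Inverses of generators. -/
theorem chk_inv : ∀ i, i < 43 → mm (gc i) (gci i) = oneC ∧ mm (gci i) (gc i) = oneC := by decide +kernel

/-- Positions of the generators in the chain. -/
theorem chk_sift : ∀ i, i < 43 → siftOK (siftGens.getD i (0, 0, 0)) (gc i) = true := by decide +kernel

/-! ### The setup -/

section Main

variable {F : Type*} [Field F] {ω : F}

theorem gens_code (hω' : ω * ω = ω + 1) {M : Matrix F9 F9 F} (hM : M ∈ j3Gens F ω) :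
    ∃ i, i < 43 ∧ EE F M = dec ω (gc i) := by
  rcases hM with ((((⟨Z, rfl⟩ | ⟨Z, rfl⟩) | ⟨Z, rfl⟩) | ⟨Z, hZ, rfl⟩) | ⟨Z, hZ, rfl⟩)
  · exact ⟨idx Z, by have := idx_lt Z; omega, EE_eq_dec fun w z => by rw [entry_A hω', chkA]⟩
  · exact ⟨9 + idx Z, by have := idx_lt Z; omega, EE_eq_dec fun w z => by rw [entry_E hω', chkE]⟩
  · exact ⟨18 + idx Z, by have := idx_lt Z; omega, EE_eq_dec fun w z => by rw [entry_D hω', chkD]⟩
  · exact ⟨26 + idx Z, by have := idx_lt Z; omega, EE_eq_dec fun w z => by rw [entry_B, chkB Z w z hZ]⟩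
  · exact ⟨34 + idx Z, by have := idx_lt Z; omega, EE_eq_dec fun w z => by rw [entry_C, chkC Z w z hZ]⟩

variable [CharP F 2]

/-- The setup for `GL`. -/
def theSetup (hω' : ω * ω = ω + 1) (hω0 : ω ≠ 0) (hω1 : ω ≠ 1) : Setup (GL F9 F) (Matrix (Fin 9) (Fin 9) F) where
  v := vGL
  hv := vGL_inj
  d := dec ω
  hmm := dec_mm hω'
  hone := dec_one
  hinj := dec_inj hω0 hω1
  gA := mkU ((EE F).symm (dec ω cA)) hω' (MulEquiv.apply_symm_apply _ _) cA_inv.1 cA_inv.2
  gB := mkU ((EE F).symm (dec ω cB)) hω' (MulEquiv.apply_symm_apply _ _) cB_inv.1 cB_inv.2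
  hgA := by
    show EE F ((EE F).symm (dec ω cA)) = dec ω cA
    exact MulEquiv.apply_symm_apply _ _
  hgB := by
    show EE F ((EE F).symm (dec ω cB)) = dec ω cB
    exact MulEquiv.apply_symm_apply _ _

variable (hω' : ω * ω = ω + 1) (hω0 : ω ≠ 0) (hω1 : ω ≠ 1)

include hω' in
theorem gen_rep {M : Matrix F9 F9 F} (hM : M ∈ j3Gens F ω) {i : ℕ} (hi : i < 43) (h : EE F M = dec ω (gc i)) :
    ∃ g ∈ threeJ3 F ω, vGL g = dec ω (gc i) :=
  ⟨mkU M hω' h (chk_inv i hi).1 (chk_inv i hi).2, Subgroup.subset_closure hM, h⟩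

include hω' in
theorem rep_35 : ∃ g ∈ threeJ3 F ω, vGL g = dec ω (gc 35) := by
  refine gen_rep hω' (M := j3C F (1, 0)) (Or.inr ⟨_, by decide, rfl⟩) (by norm_num)
    (EE_eq_dec fun w z => ?_)
  rw [entry_C (ω := ω), chkC (1, 0) w z (by decide)]
  rfl

include hω' in
theorem rep_25 : ∃ g ∈ threeJ3 F ω, vGL g = dec ω (gc 25) := by
  refine gen_rep hω' (M := j3D F ω (1, 2)) (Or.inl (Or.inl (Or.inr ⟨_, rfl⟩))) (by norm_num)
    (EE_eq_dec fun w z => ?_)
  rw [entry_D hω', chkD]
  rfl

include hω' in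
theorem rep_24 : ∃ g ∈ threeJ3 F ω, vGL g = dec ω (gc 24) := by
  refine gen_rep hω' (M := j3D F ω (0, 2)) (Or.inl (Or.inl (Or.inr ⟨_, rfl⟩))) (by norm_num)
    (EE_eq_dec fun w z => ?_)
  rw [entry_D hω', chkD]
  rfl

include hω' in
theorem rep_9 : ∃ g ∈ threeJ3 F ω, vGL g = dec ω (gc 9) := by
  refine gen_rep hω' (M := j3E F ω (0, 0)) (Or.inl (Or.inl (Or.inl (Or.inr ⟨_, rfl⟩)))) (by norm_num)
    (EE_eq_dec fun w z => ?_)
  rw [entry_E hω', chkE]
  rfl

include hω' in
theorem rep_40 : ∃ g ∈ threeJ3 F ω, vGL g = dec ω (gc 40) := by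
  refine gen_rep hω' (M := j3C F (0, 2)) (Or.inr ⟨_, by decide, rfl⟩) (by norm_num)
    (EE_eq_dec fun w z => ?_)
  rw [entry_C (ω := ω), chkC (0, 2) w z (by decide)]
  rfl

include hω' in
theorem rep_23 : ∃ g ∈ threeJ3 F ω, vGL g = dec ω (gc 23) := by
  refine gen_rep hω' (M := j3D F ω (2, 1)) (Or.inl (Or.inl (Or.inr ⟨_, rfl⟩))) (by norm_num)
    (EE_eq_dec fun w z => ?_)
  rw [entry_D hω', chkD]
  rfl

variable [Finite F]

theorem M_eq : (theSetup hω' hω0 hω1).M = threeJ3 F ω := by
  apply le_antisymm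
  · refine (Subgroup.closure_le _).mpr ?_
    rintro _ (rfl | h)
    · obtain ⟨g1, hg1, e1⟩ := rep_35 hω'
      obtain ⟨g2, hg2, e2⟩ := rep_25 hω'
      obtain ⟨g3, hg3, e3⟩ := rep_24 hω'
      have : (theSetup hω' hω0 hω1).gA = g1 * (g2 * g3) := by
        apply vGL_inj
        rw [map_mul, map_mul, e1, e2, e3, ← dec_mm hω', ← dec_mm hω', chk_wA]
        exact (theSetup hω' hω0 hω1).hgA
      rw [this]
      exact Subgroup.mul_mem _ hg1 (Subgroup.mul_mem _ hg2 hg3)
    · rw [Set.mem_singleton_iff] at h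
      rw [h]
      obtain ⟨g1, hg1, e1⟩ := rep_9 hω'
      obtain ⟨g2, hg2, e2⟩ := rep_40 hω'
      obtain ⟨g3, hg3, e3⟩ := rep_23 hω'
      have : (theSetup hω' hω0 hω1).gB = g1 * (g2 * g3) := by
        apply vGL_inj
        rw [map_mul, map_mul, e1, e2, e3, ← dec_mm hω', ← dec_mm hω', chk_wB]
        exact (theSetup hω' hω0 hω1).hgB
      rw [this]
      exact Subgroup.mul_mem _ hg1 (Subgroup.mul_mem _ hg2 hg3)
  · refine (Subgroup.closure_le _).mpr ?_
    intro g hg
    obtain ⟨i, hi, e⟩ := gens_code hω' hg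
    obtain ⟨L, hLM, _, hT1, hT2⟩ := chain_exists (theSetup hω' hω0 hω1)
    obtain ⟨h, hh, eh⟩ := rep_of_sift hLM hT1 hT2 (chk_sift i hi)
    have : g = h := by
      apply vGL_inj
      rw [vGL_apply, e]
      exact eh.symm
    rw [this]
    exact hh

end Main

section Final

variable {F : Type*} [Field F] [Fintype F] (hF : Fintype.card F = 4) {ω : F} (hω : ω ^ 2 + ω + 1 = 0)

include hF hω in
/-- The theorem on `threeJ3`. -/
theorem threeJ3_main : Nat.card (Subgroup.center (threeJ3 F ω)) = 3 ∧ Nat.card (threeJ3 F ω) = 150698880 ∧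
    Nat.card (J3 F ω) = 50232960 ∧ IsSimpleGroup (J3 F ω) := by
  have : CharP F 2 := charP_of_card hF
  have h := main (theSetup (omega_sq hω) (omega_ne_zero hω) (omega_ne_one hω))
  rw [M_eq] at h
  exact ⟨h.1, h.2.1, h.2.2.1, h.2.2.2.1⟩

include hF hω in
/-- The order of the permutation group. -/
theorem P_card_of_field : Nat.card PermPart.P = 50232960 := by
  have : CharP F 2 := charP_of_card hF
  exact (main (theSetup (omega_sq hω) (omega_ne_zero hω) (omega_ne_one hω))).2.2.2.2

end Final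

section Existence

/-- A root of `X² + X + 1` in a field with four elements. -/
theorem exists_omega (F : Type*) [Field F] [Fintype F] (hF : Fintype.card F = 4) : ∃ ω : F, ω ^ 2 + ω + 1 = 0 := by
  have : CharP F 2 := charP_of_card hF
  classical
  have h : ∃ ω : F, ω ∉ ({0, 1} : Finset F) := by
    by_contra hcon
    push Not at hcon
    have : Fintype.card F ≤ ({0, 1} : Finset F).card := by
      rw [← Finset.card_univ]
      exact Finset.card_le_card fun x _ => hcon x
    have h2 : ({0, 1} : Finset F).card ≤ 2 := Finset.card_le_two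
    omega
  obtain ⟨ω, hω⟩ := h
  simp only [Finset.mem_insert, Finset.mem_singleton, not_or] at hω
  refine ⟨ω, ?_⟩
  have h3 : ω ^ 3 = 1 := by
    have := FiniteField.pow_card_sub_one_eq_one ω hω.1
    rw [hF] at this
    exact this
  have h4 : (ω - 1) * (ω ^ 2 + ω + 1) = 0 := by
    have : (ω - 1) * (ω ^ 2 + ω + 1) = ω ^ 3 - 1 := by ring
    rw [this, h3, sub_self]
  rcases mul_eq_zero.mp h4 with h5 | h5
  · exact absurd (sub_eq_zero.mp h5) hω.2
  · exact h5

/-- The field with four elements. -/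
abbrev F4 : Type := GaloisField 2 2

noncomputable instance : Fintype F4 := Fintype.ofFinite _

theorem F4_card : Fintype.card F4 = 4 := by
  have := GaloisField.card 2 2 (by norm_num)
  rw [Nat.card_eq_fintype_card] at this
  rw [this]
  norm_num

/-- The order of the permutation group. -/
theorem P_card : Nat.card PermPart.P = 50232960 := by
  obtain ⟨ω, hω⟩ := exists_omega F4 F4_card
  exact P_card_of_field F4_card hω

end Existence

end Cfsg.Agent.Lib.Compute.J3.Inst
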