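import Cfsg.Agent.Lib.Compute.J3.InvDefs

/-!
# Kernel checks on the involutions of the triple cover of `J₃`, part 1
-/

set_option autoImplicit false

namespace Cfsg.Agent.Lib.Compute.J3.InvCheck

open Cfsg.Agent.Lib.Compute.PermCert
open Cfsg.Agent.Lib.Compute.J3.Data Cfsg.Agent.Lib.Compute.J3.F4Mat Cfsg.Agent.Lib.Compute.J3.InvData
open Cfsg.Agent.Lib.Compute.J3.Check

theorem rng5 : rangeOK 5 = true := by decide +kernel
theorem rng6 : rangeOK 6 = true := by decide +kernel
theorem rng7 : rangeOK 7 = true := by decide +kernel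
theorem rng8 : rangeOK 8 = true := by decide +kernel

end Cfsg.Agent.Lib.Compute.J3.InvCheck
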