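import Cfsg.Agent.Lib.Compute.J3.InvDefs

/-!
# Kernel checks on the involutions of the triple cover of `J₃`, part 2
-/

set_option autoImplicit false

namespace Cfsg.Agent.Lib.Compute.J3.InvCheck

open Cfsg.Agent.Lib.Compute.PermCert
open Cfsg.Agent.Lib.Compute.J3.Data Cfsg.Agent.Lib.Compute.J3.F4Mat Cfsg.Agent.Lib.Compute.J3.InvData
open Cfsg.Agent.Lib.Compute.J3.Check

theorem rng9 : rangeOK 9 = true := by decide +kernel
theorem rng10 : rangeOK 10 = true := by decide +kernel
theorem rng11 : rangeOK 11 = true := by decide +kernel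
theorem rng12 : rangeOK 12 = true := by decide +kernel

end Cfsg.Agent.Lib.Compute.J3.InvCheck
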