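import Cfsg.Agent.Lib.Compute.J3.InvRng0
import Cfsg.Agent.Lib.Compute.J3.InvRng1
import Cfsg.Agent.Lib.Compute.J3.InvRng2

/-!
# Kernel checks on the involutions of the triple cover of `J₃`
-/

set_option autoImplicit false

namespace Cfsg.Agent.Lib.Compute.J3.InvCheck

open Cfsg.Agent.Lib.Compute.PermCert
open Cfsg.Agent.Lib.Compute.J3.Data Cfsg.Agent.Lib.Compute.J3.F4Mat Cfsg.Agent.Lib.Compute.J3.InvData
open Cfsg.Agent.Lib.Compute.J3.Check

theorem lineOK_all {i : Nat} (hi : i < NI) : lineOK i = true := by
  have hNI : NI = 26163 := rfl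
  have h1 : i / 2048 < 13 := by omega
  have h2 : i % 2048 < 2048 := by omega
  have hg : rangeOK (i / 2048) = true := by
    generalize i / 2048 = g at h1
    interval_cases g
    · exact rng0
    · exact rng1
    · exact rng2
    · exact rng3
    · exact rng4
    · exact rng5
    · exact rng6
    · exact rng7
    · exact rng8
    · exact rng9
    · exact rng10
    · exact rng11
    · exact rng12
  have h3 := (allB_iff _ _).mp hg (i % 2048) h2
  have e : Nat.add (Nat.mul 2048 (i / 2048)) (i % 2048) = i := Nat.div_add_mod i 2048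
  rw [e] at h3
  have h4 : Nat.blt i NI = true := by
    rw [Nat.blt_eq]
    exact hi
  rw [h4] at h3
  exact h3

/-! ### Other checks -/

theorem p2_inv : ∀ j, j < 128 → (Nat.beq (tb P2big j) oneC = true ∨ Nat.beq (mm (tb P2big j) (tb P2big j)) oneC = false ∨
    Nat.beq (invC (get 15 32767 p2idx j)) (tb P2big j) = true ∧ get 15 32767 p2idx j < NI) := by
  decide +kernel

theorem sift_y0_ok : siftOK sift_y0 y0 = true := by decide +kernel
theorem sift_tA_ok : siftOK sift_tA tA = true := by decide +kernel
theorem sift_tB_ok : siftOK sift_tB tB = true := by decide +kernel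

theorem y0_sq : mm y0 y0 = oneC := by decide +kernel
theorem y0_ne : y0 ≠ oneC := by decide +kernel
theorem y0_lt : y0 < 2 ^ 162 := by decide +kernel
theorem A6_eq : A6c = pw cA 6 := by decide +kernel
theorem y0_rel1 : rel1 y0 = true := by decide +kernel
theorem y0_rel2 : rel2 y0 = true := by decide +kernel

/-- The short list is the list of the conjugates of `y` under the powers of `A`. -/
theorem short_ok : ∀ s ∈ shortL, ∃ k, k < 19 ∧ Nat.beq (mm s (pw cA k)) (mm (pw cA k) y0) = true := by
  decide +kernel

/-- The letters of words in `A`, `A⁻¹`, `y`. -/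
def ltY (l : Nat) : Nat := Nat.rec cA (fun n _ => Nat.rec cAi (fun _ _ => y0) n) l

/-- The code of a word in `A`, `A⁻¹`, `y`. -/
def wcodeY : List Nat → Nat
  | [] => oneC
  | l :: u => mm (ltY l) (wcodeY u)

theorem wBy_ok : wcodeY wBy = cB := by decide +kernel

/-- The element normalising `⟨A⟩`. -/
theorem rho_ok : mm (wcode wRho) cA = mm (pw cA 9) (wcode wRho) := by decide +kernel

/-- The twist. -/
theorem twist_ok : mm (wcode wH) tA = mm (pw cA 18) (wcode wH) := by decide +kernel

/-- Codes are bounded. -/
theorem zc2_lt : zc2 < 2 ^ 162 := by decide +kernel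

end Cfsg.Agent.Lib.Compute.J3.InvCheck
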