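import Cfsg.Agent.Lib.Compute.J3.Inst
import Cfsg.Agent.Lib.Compute.J3.OrbData

/-!
# Kernel checks of the orbits on vectors
-/

set_option autoImplicit false

namespace Cfsg.Agent.Lib.Compute.J3.OrbCheck

open Cfsg.Agent.Lib.Compute.PermCert
open Cfsg.Agent.Lib.Compute.J3.Data Cfsg.Agent.Lib.Compute.J3.F4Mat Cfsg.Agent.Lib.Compute.J3.OrbData
open Cfsg.Agent.Lib.Compute.J3.Inst

/-- Multiples of a column. -/
def gA0 : Nat := grp (rw cAt 0)
/-- Multiples of a column. -/
def gA1 : Nat := grp (rw cAt 18)
/-- Multiples of a column. -/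
def gA2 : Nat := grp (rw cAt 36)
/-- Multiples of a column. -/
def gA3 : Nat := grp (rw cAt 54)
/-- Multiples of a column. -/
def gA4 : Nat := grp (rw cAt 72)
/-- Multiples of a column. -/
def gA5 : Nat := grp (rw cAt 90)
/-- Multiples of a column. -/
def gA6 : Nat := grp (rw cAt 108)
/-- Multiples of a column. -/
def gA7 : Nat := grp (rw cAt 126)
/-- Multiples of a column. -/
def gA8 : Nat := grp (rw cAt 144)
/-- Multiples of a column. -/
def gB0 : Nat := grp (rw cBt 0)
/-- Multiples of a column. -/
def gB1 : Nat := grp (rw cBt 18)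
/-- Multiples of a column. -/
def gB2 : Nat := grp (rw cBt 36)
/-- Multiples of a column. -/
def gB3 : Nat := grp (rw cBt 54)
/-- Multiples of a column. -/
def gB4 : Nat := grp (rw cBt 72)
/-- Multiples of a column. -/
def gB5 : Nat := grp (rw cBt 90)
/-- Multiples of a column. -/
def gB6 : Nat := grp (rw cBt 108)
/-- Multiples of a column. -/
def gB7 : Nat := grp (rw cBt 126)
/-- Multiples of a column. -/
def gB8 : Nat := grp (rw cBt 144)

/-- The action of `A` on vectors. -/
def apA (x : Nat) : Nat := rowP gA0 gA1 gA2 gA3 gA4 gA5 gA6 gA7 gA8 x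
/-- The action of `B` on vectors. -/
def apB (x : Nat) : Nat := rowP gB0 gB1 gB2 gB3 gB4 gB5 gB6 gB7 gB8 x
/-- The action of a generator on vectors. -/
def ap (s x : Nat) : Nat := Nat.rec (apA x) (fun _ _ => apB x) s

/-- The mask of a block of the table. -/
def blkM : Nat := Nat.sub (Nat.shiftLeft 1 2048) 1
/-- A block of the table. -/
def blk (q : Nat) : Nat := Nat.land (Nat.shiftRight orbT (Nat.mul 2048 q)) blkM
/-- The entry of the table of a code.  Going through blocks keeps the evaluation of the kernel from retaining many large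
intermediate numbers. -/
def oe (c : Nat) : Nat :=
  frc (Nat.shiftRight c 8) fun q => frc (Nat.land c 255) fun r => Nat.land (Nat.shiftRight (blk q) (Nat.mul 8 r)) 255
/-- The orbit of an entry. -/
def eo (e : Nat) : Nat := Nat.land e 3
/-- The letter of an entry. -/
def el (e : Nat) : Nat := Nat.land (Nat.shiftRight e 2) 1
/-- The depth of an entry. -/
def ed (e : Nat) : Nat := Nat.shiftRight e 3
/-- The root of an orbit. -/
def rootO (o : Nat) : Nat := Nat.rec 0 (fun n _ => Nat.rec 1 (fun _ _ => 20) n) o

/-- The parity of the number of nonzero coordinates. -/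
def parity (c : Nat) : Nat :=
  frc (Nat.land (Nat.lor c (Nat.shiftRight c 1)) maskL) fun u =>
  frc (Nat.xor u (Nat.shiftRight u 2)) fun w1 =>
  frc (Nat.xor w1 (Nat.shiftRight w1 4)) fun w2 =>
  frc (Nat.xor w2 (Nat.shiftRight w2 8)) fun w3 =>
    Nat.land (Nat.xor w3 (Nat.shiftRight u 16)) 1

/-- The tree check. -/
def treeV (c e : Nat) : Bool :=
  Nat.rec (Nat.beq c (rootO (eo e)))
    (fun _ _ => frc (oe (ap (el e) c)) fun e' => Nat.beq (eo e') (eo e) && Nat.blt (ed e') (ed e)) (ed e)

/-- The closure check of the first orbit. -/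
def closV (c : Nat) : Bool :=
  Nat.beq (eo (oe (ap 0 c))) 1 && Nat.beq (eo (oe (ap 1 c))) 1 && Nat.beq (eo (oe (wr c))) 1

/-- The check on the vectors outside of the second orbit. -/
def isoV (c : Nat) : Bool := Nat.rec true (fun _ _ => Nat.beq (parity c) 1) c

/-- All the checks on one code. -/
def chkV (c : Nat) : Bool :=
  frc (oe c) fun e =>
    Nat.rec (isoV c)
      (fun n _ => Nat.rec (treeV c e && closV c && isoV c)
        (fun n _ => Nat.rec (treeV c e) (fun _ _ => false) n) n) (eo e)

/-- All numbers below `a * b` satisfy `f`: split in blocks. -/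
def all2 (f : Nat → Bool) (a b : Nat) : Bool :=
  allB (fun q => allB (fun r => f (Nat.add (Nat.mul b q) r)) b) a

theorem all2_iff {f : Nat → Bool} {a b : Nat} (h : all2 f a b = true) {c : Nat} (hc : c < a * b) : f c = true := by
  have hb : 0 < b := by
    rcases Nat.eq_zero_or_pos b with h0 | h0
    · subst h0
      simp at hc
    · exact h0
  have hq : c / b < a := by
    rw [Nat.div_lt_iff_lt_mul hb]
    exact hc
  have hr : c % b < b := Nat.mod_lt _ hb
  have h1 := (allB_iff _ _).mp ((allB_iff _ _).mp h (c / b) hq) (c % b) hr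
  have e : Nat.add (Nat.mul b (c / b)) (c % b) = c := Nat.div_add_mod c b
  rw [e] at h1
  exact h1

/-- The checks on a group of blocks: one group per declaration, so that the kernel's caches stay small. -/
def grpOK (g : Nat) : Bool := all2 (fun c => chkV (Nat.add (Nat.mul 32768 g) c)) 64 512

theorem grp0 : grpOK 0 = true := by decide +kernel
theorem grp1 : grpOK 1 = true := by decide +kernel
theorem grp2' : grpOK 2 = true := by decide +kernel
theorem grp3 : grpOK 3 = true := by decide +kernel
theorem grp4 : grpOK 4 = true := by decide +kernel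
theorem grp5 : grpOK 5 = true := by decide +kernel
theorem grp6 : grpOK 6 = true := by decide +kernel
theorem grp7 : grpOK 7 = true := by decide +kernel

theorem chkV_all {c : Nat} (hc : c < 2 ^ 18) : chkV c = true := by
  have h1 : c / 32768 < 8 := by omega
  have h2 : c % 32768 < 64 * 512 := by omega
  have hg : grpOK (c / 32768) = true := by
    generalize c / 32768 = g at h1
    interval_cases g
    · exact grp0
    · exact grp1
    · exact grp2'
    · exact grp3
    · exact grp4
    · exact grp5
    · exact grp6
    · exact grp7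
  have h3 := all2_iff hg h2
  have e : Nat.add (Nat.mul 32768 (c / 32768)) (c % 32768) = c := Nat.div_add_mod c 32768
  rw [e] at h3
  exact h3

/-- The orbit of a code. -/
def oo (c : ℕ) : ℕ := eo (oe c)
/-- The letter of a code. -/
def ol (c : ℕ) : ℕ := el (oe c)
/-- The depth of a code. -/
def od (c : ℕ) : ℕ := ed (oe c)


theorem oo_zero : oo 0 = 0 := by decide +kernel
theorem oo_one : oo 1 = 1 := by decide +kernel
theorem oo_twenty : oo 20 = 2 := by decide +kernel

theorem cAt_spec : ∀ i t : Fin 9, digit cAt i t = digit cA t i := by decide +kernel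
theorem cBt_spec : ∀ i t : Fin 9, digit cBt i t = digit cB t i := by decide +kernel

/-- The count in a group of blocks. -/
def cntG (g : Nat) : Nat :=
  PermPart.cntA (fun c => bif Nat.beq (oo (Nat.add (Nat.mul 32768 g) c)) 1 then 1 else 0) 32768 0

theorem cnt0 : cntG 0 = 8824 := by decide +kernel
theorem cnt1 : cntG 1 = 8696 := by decide +kernel
theorem cnt2 : cntG 2 = 8704 := by decide +kernel
theorem cnt3 : cntG 3 = 8712 := by decide +kernel
theorem cnt4 : cntG 4 = 8704 := by decide +kernel
theorem cnt5 : cntG 5 = 8712 := by decide +kernel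
theorem cnt6 : cntG 6 = 8704 := by decide +kernel
theorem cnt7 : cntG 7 = 8712 := by decide +kernel

end Cfsg.Agent.Lib.Compute.J3.OrbCheck
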