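import Cfsg.Agent.Lib.Compute.J3.Check
import Cfsg.Agent.Lib.Compute.J3.OrbCheck
import Cfsg.Agent.Lib.Compute.J3.InvData

/-!
# Definitions of the kernel checks on the involutions of the triple cover of `J₃`
-/

set_option autoImplicit false

namespace Cfsg.Agent.Lib.Compute.J3.InvCheck

open Cfsg.Agent.Lib.Compute.PermCert
open Cfsg.Agent.Lib.Compute.J3.Data Cfsg.Agent.Lib.Compute.J3.F4Mat Cfsg.Agent.Lib.Compute.J3.InvData
open Cfsg.Agent.Lib.Compute.J3.Check

noncomputable section

/-- The number of involutions. -/
def NI : Nat := 26163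

/-- The mask of a block of the list. -/
def invM : Nat := Nat.sub (Nat.shiftLeft 1 41472) 1
/-- A block of the list. -/
def invB (q : Nat) : Nat := Nat.land (Nat.shiftRight invT (Nat.mul 41472 q)) invM
/-- An involution. -/
def invC (i : Nat) : Nat :=
  frc (Nat.shiftRight i 8) fun q => frc (Nat.land i 255) fun r =>
    Nat.land (Nat.shiftRight (invB q) (Nat.mul 162 r)) M162

/-- The mask of a block of a table of rows. -/
def rowM' : Nat := Nat.sub (Nat.shiftLeft 1 3840) 1
/-- A block of a table of rows. -/
def rowB (t q : Nat) : Nat := Nat.land (Nat.shiftRight t (Nat.mul 3840 q)) rowM'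
/-- An entry of a table of rows. -/
def rowG (t i : Nat) : Nat :=
  frc (Nat.shiftRight i 8) fun q => frc (Nat.land i 255) fun r =>
    Nat.land (Nat.shiftRight (rowB t q) (Nat.mul 15 r)) 32767

/-- The square of the scalar. -/
def zc2 : Nat := mm zc zc

/-- Test for scalars of order dividing three. -/
def isZ (c : Nat) : Bool := Nat.beq c oneC || Nat.beq c zc || Nat.beq c zc2

/-- The first relation. -/
def rel1 (x : Nat) : Bool := frc (mm cA x) fun u => frc (mm u u) fun u2 => isZ (mm u u2)
/-- The second relation. -/
def rel2 (x : Nat) : Bool := isZ (pw (mm A6c x) 8)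
/-- Membership in the short list. -/
def inShort (x : Nat) : Bool := shortL.any (Nat.beq x)

/-- The check of one involution. -/
def lineOK (i : Nat) : Bool :=
  frc (invC i) fun x => frc (rowG rowIA i) fun ia => frc (rowG rowIB i) fun ib =>
    Nat.blt ia NI && Nat.blt ib NI && Nat.beq (mm cA x) (mm (invC ia) cA) && Nat.beq (mm cB x) (mm (invC ib) cB) &&
      (!rel1 x || !rel2 x || inShort x)

/-- The check of a range of involutions. -/
def rangeOK (g : Nat) : Bool :=
  allB (fun r => bif Nat.blt (Nat.add (Nat.mul 2048 g) r) NI then lineOK (Nat.add (Nat.mul 2048 g) r) else true) 2048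

end

end Cfsg.Agent.Lib.Compute.J3.InvCheck
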