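import Cfsg.Agent.Lib.Compute.J3.PermPart
import Cfsg.Agent.Lib.Compute.J3.Check

/-!
# The chain theorem for the triple cover of `J₃`

Generic statement: two elements `gA`, `gB` of a finite group `Γ`, whose images under an injective monoid morphism are
decoded from the packed matrices `cA`, `cB`, generate a group of order `150698880`, with center of order `3` and simple
central quotient.
-/

set_option autoImplicit false

namespace Cfsg.Agent.Lib.Compute.J3.Main

open MulAction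
open Cfsg.Agent.Lib.Compute.PermCert Cfsg.Agent.Lib.Compute.PermSimple
open Cfsg.Agent.Lib.Compute.J3.Data Cfsg.Agent.Lib.Compute.J3.Chain Cfsg.Agent.Lib.Compute.J3.F4Mat
open Cfsg.Agent.Lib.Compute.J3.Check Cfsg.Agent.Lib.Compute.J3.PermPart

/-- The data of a realization of the packed matrices. -/
structure Setup (Γ A : Type*) [Group Γ] [Monoid A] where
  /-- The embedding. -/
  v : Γ →* A
  hv : Function.Injective v
  /-- The decoding. -/
  d : ℕ → A
  hmm : ∀ a b, d (mm a b) = d a * d b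
  hone : d oneC = 1
  hinj : ∀ a b, a < 2 ^ 162 → b < 2 ^ 162 → d a = d b → a = b
  /-- The first generator. -/
  gA : Γ
  /-- The second generator. -/
  gB : Γ
  hgA : v gA = d cA
  hgB : v gB = d cB

variable {Γ A : Type*} [Group Γ] [Monoid A] (S : Setup Γ A)

/-- The code `c` decodes to the image of an element of `H`. -/
def Setup.Rep (H : Subgroup Γ) (c : ℕ) : Prop := ∃ h ∈ H, S.v h = S.d c

/-- The group generated by `A` and `B`. -/
def Setup.M : Subgroup Γ := Subgroup.closure {S.gA, S.gB}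

variable {S}

theorem Setup.Rep.one (H : Subgroup Γ) : S.Rep H oneC := ⟨1, H.one_mem, by rw [map_one, S.hone]⟩

theorem Setup.Rep.mul {H : Subgroup Γ} {a b : ℕ} (ha : S.Rep H a) (hb : S.Rep H b) : S.Rep H (mm a b) := by
  obtain ⟨x, hx, ex⟩ := ha
  obtain ⟨y, hy, ey⟩ := hb
  exact ⟨x * y, H.mul_mem hx hy, by rw [map_mul, ex, ey, S.hmm]⟩

theorem Setup.Rep.mono {H K : Subgroup Γ} (hHK : H ≤ K) {c : ℕ} (h : S.Rep H c) : S.Rep K c := by
  obtain ⟨x, hx, ex⟩ := h
  exact ⟨x, hHK hx, ex⟩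

theorem Setup.Rep.of_eq {H : Subgroup Γ} {c c' : ℕ} (h : S.Rep H c) (e : S.d c' = S.d c) : S.Rep H c' := by
  obtain ⟨x, hx, ex⟩ := h
  exact ⟨x, hx, by rw [ex, e]⟩

theorem Setup.Rep.left_cancel {H : Subgroup Γ} {a b c : ℕ} (ha : S.Rep H a) (hb : S.Rep H b) (e : S.d a * S.d c = S.d b) :
    S.Rep H c := by
  obtain ⟨x, hx, ex⟩ := ha
  obtain ⟨y, hy, ey⟩ := hb
  refine ⟨x⁻¹ * y, H.mul_mem (H.inv_mem hx) hy, ?_⟩
  have h1 : S.v x⁻¹ * S.v x = 1 := by rw [← map_mul, inv_mul_cancel, map_one]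
  rw [map_mul, ey, ← e, ← ex, ← mul_assoc, h1, one_mul]

/-- A tree gives the representation of all entries of a table. -/
theorem tree_rep {H : Subgroup Γ} {T : ℕ → ℕ} {n : ℕ} (dp pr : ℕ → ℕ)
    (hroot : ∀ j, j < n → dp j = 0 → T j = oneC)
    (hstep : ∀ j, j < n → dp j ≠ 0 → pr j < n ∧ dp (pr j) < dp j ∧ ∃ c, S.Rep H c ∧ S.d (T j) = S.d c * S.d (T (pr j))) :
    ∀ j, j < n → S.Rep H (T j) := by
  have key : ∀ m j, dp j = m → j < n → S.Rep H (T j) := by
    intro m
    induction m using Nat.strong_induction_on with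
    | _ m ih =>
      intro j hm hj
      by_cases h0 : dp j = 0
      · rw [hroot j hj h0]
        exact Setup.Rep.one H
      · obtain ⟨h1, h2, c, hc, e⟩ := hstep j hj h0
        have := ih (dp (pr j)) (by omega) (pr j) rfl h1
        exact (hc.mul this).of_eq (by rw [S.hmm, e])
  exact fun j hj => key _ j rfl hj

/-! ### Level 2 -/

section Level2

variable {x2a x2b : Γ} (h2a : S.v x2a = S.d (g2c 0)) (h2b : S.v x2b = S.d (g2c 1))

theorem row2_spec (s : ℕ) {k : ℕ} (hk : k < 96) :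
    get 7 127 (r2g s) k < 96 ∧ mm (g2c s) (T2 k) = T2 (get 7 127 (r2g s) k) := by
  have h : row2OK (g2c s) (r2g s) k = true := by
    cases s with
    | zero => exact (allB_iff _ _).mp row2a_ok k hk
    | succ n => exact (allB_iff _ _).mp row2b_ok k hk
  simp only [row2OK, frc_eq, Bool.and_eq_true, Nat.blt_eq, Nat.beq_eq] at h
  exact h

include h2a h2b in
theorem g2c_rep (s : ℕ) : S.Rep (Subgroup.closure {x2a, x2b}) (g2c s) := by
  cases s with
  | zero => exact ⟨x2a, Subgroup.subset_closure (Set.mem_insert _ _), h2a⟩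
  | succ n => exact ⟨x2b, Subgroup.subset_closure (Set.mem_insert_of_mem _ rfl), h2b⟩

include h2a h2b in
theorem T2_rep : ∀ k, k < 96 → S.Rep (Subgroup.closure {x2a, x2b}) (T2 k) := by
  refine tree_rep (fun k => k) p2 ?_ ?_
  · intro j _ h0
    show T2 j = oneC
    have h0' : j = 0 := h0
    rw [h0', T2_zero]
  · intro j hj h0
    have h0' : j ≠ 0 := h0
    obtain ⟨m, rfl⟩ := Nat.exists_eq_succ_of_ne_zero h0'
    have h : tree2OK (Nat.succ m) = true := (allB_iff _ _).mp tree2_ok _ hj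
    have h' : (Nat.blt (p2 (Nat.succ m)) (Nat.succ m) &&
      Nat.beq (get 7 127 (r2g (s2 (Nat.succ m))) (p2 (Nat.succ m))) (Nat.succ m)) = true := h
    simp only [Bool.and_eq_true, Nat.blt_eq, Nat.beq_eq] at h'
    obtain ⟨h1, h2⟩ := h'
    refine ⟨by omega, h1, g2c (s2 (Nat.succ m)), g2c_rep h2a h2b _, ?_⟩
    have h3 := (row2_spec (s2 (Nat.succ m)) (k := p2 (Nat.succ m)) (by omega)).2
    rw [h2] at h3
    rw [← S.hmm, h3]

variable [Finite Γ]

include h2a h2b in
theorem G2_cover (g : Γ) (hg : g ∈ Subgroup.closure {x2a, x2b}) :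
    ∃ j, j < 96 ∧ ∃ h ∈ (⊥ : Subgroup Γ), S.v g = S.d (T2 j) * S.v h := by
  refine cover_of_table S.v (T := fun k => S.d (T2 k)) (n := 96) (j₀ := 0) (by norm_num) ?_ ?_ hg
  · show S.d (T2 0) = 1
    rw [T2_zero, S.hone]
  · rintro s hs j hj
    have hs' : ∃ t, S.v s = S.d (g2c t) := by
      rcases hs with rfl | hs
      · exact ⟨0, h2a⟩
      · rw [Set.mem_singleton_iff] at hs
        rw [hs]
        exact ⟨1, h2b⟩
    obtain ⟨t, ht⟩ := hs'
    obtain ⟨h1, h3⟩ := row2_spec t hj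
    refine ⟨_, h1, 1, Subgroup.one_mem _, ?_⟩
    rw [ht, ← S.hmm, h3, map_one, mul_one]

include h2a h2b in
theorem G2_card : Nat.card (Subgroup.closure {x2a, x2b}) ≤ 96 := by
  have := card_le_of_cover S.v S.hv (G := Subgroup.closure {x2a, x2b}) (H := ⊥) (T := fun k => S.d (T2 k)) (n := 96)
    (G2_cover h2a h2b)
  simpa using this

end Level2

/-! ### Level 1 -/

section Level1

variable {x1a x1b : Γ} (h1a : S.v x1a = S.d (g1c 0)) (h1b : S.v x1b = S.d (g1c 1))

theorem land255 {k : ℕ} (hk : k < 255) : Nat.land k 255 = k := by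
  have : k &&& (2 ^ 8 - 1) = k % 2 ^ 8 := Nat.and_two_pow_sub_one_eq_mod k 8
  have h2 : Nat.land k 255 = k &&& (2 ^ 8 - 1) := rfl
  rw [h2, this]
  omega

theorem shr8 {k : ℕ} (hk : k < 255) : Nat.shiftRight k 8 = 0 := by
  have h2 : Nat.shiftRight k 8 = k >>> 8 := rfl
  rw [h2, Nat.shiftRight_eq_div_pow]
  omega

theorem row1_spec (s : ℕ) {i : ℕ} (hi : i < 255) :
    Nat.land (get 15 32767 (r1g s) i) 255 < 255 ∧ Nat.shiftRight (get 15 32767 (r1g s) i) 8 < 96 ∧
      mm (g1c s) (T1 i) = mm (T1 (Nat.land (get 15 32767 (r1g s) i) 255)) (T2 (Nat.shiftRight (get 15 32767 (r1g s) i) 8)) := by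
  have h : row1OK (g1c s) (r1g s) i = true := by
    cases s with
    | zero => exact (allB_iff _ _).mp row1a_ok i hi
    | succ n => exact (allB_iff _ _).mp row1b_ok i hi
  simp only [row1OK, frc_eq, Bool.and_eq_true, Nat.blt_eq, Nat.beq_eq] at h
  exact ⟨h.1.1, h.1.2, h.2⟩

include h1a h1b in
theorem g1c_rep (s : ℕ) : S.Rep (Subgroup.closure {x1a, x1b}) (g1c s) := by
  cases s with
  | zero => exact ⟨x1a, Subgroup.subset_closure (Set.mem_insert _ _), h1a⟩
  | succ n => exact ⟨x1b, Subgroup.subset_closure (Set.mem_insert_of_mem _ rfl), h1b⟩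

include h1a h1b in
theorem T1_rep : ∀ k, k < 255 → S.Rep (Subgroup.closure {x1a, x1b}) (T1 k) := by
  refine tree_rep (fun k => k) p1 ?_ ?_
  · intro j _ h0
    show T1 j = oneC
    have h0' : j = 0 := h0
    rw [h0', T1_zero]
  · intro j hj h0
    have h0' : j ≠ 0 := h0
    obtain ⟨m, rfl⟩ := Nat.exists_eq_succ_of_ne_zero h0'
    have h : tree1OK (Nat.succ m) = true := (allB_iff _ _).mp tree1_ok _ hj
    have h' : (Nat.blt (p1 (Nat.succ m)) (Nat.succ m) &&
      Nat.beq (get 15 32767 (r1g (s1 (Nat.succ m))) (p1 (Nat.succ m))) (Nat.succ m)) = true := h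
    simp only [Bool.and_eq_true, Nat.blt_eq, Nat.beq_eq] at h'
    obtain ⟨h1, h2⟩ := h'
    refine ⟨by omega, h1, g1c (s1 (Nat.succ m)), g1c_rep h1a h1b _, ?_⟩
    obtain ⟨_, _, h3⟩ := row1_spec (s1 (Nat.succ m)) (i := p1 (Nat.succ m)) (by omega)
    rw [h2, land255 hj, shr8 hj, T2_zero] at h3
    rw [← S.hmm, h3, S.hmm, S.hone, mul_one]

include h1a h1b in
/-- The generators of level 2 in `L`. -/
theorem T2_mem_L {k : ℕ} {i : ℕ} (hi : i < 255) (hk : Nat.shiftRight (get 15 32767 (r1g 0) i) 8 = k) :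
    S.Rep (Subgroup.closure {x1a, x1b}) (T2 k) := by
  obtain ⟨h1, _, h3⟩ := row1_spec 0 hi
  rw [hk] at h3
  refine Setup.Rep.left_cancel (T1_rep h1a h1b _ h1) ((g1c_rep h1a h1b 0).mul (T1_rep h1a h1b _ hi)) ?_
  rw [← S.hmm, h3]

variable [Finite Γ]

include h1a h1b in
theorem L_cover {H : Subgroup Γ} (hT2 : ∀ k, k < 96 → S.Rep H (T2 k)) (g : Γ) (hg : g ∈ Subgroup.closure {x1a, x1b}) :
    ∃ j, j < 255 ∧ ∃ h ∈ H, S.v g = S.d (T1 j) * S.v h := by
  refine cover_of_table S.v (T := fun k => S.d (T1 k)) (n := 255) (j₀ := 0) (by norm_num) ?_ ?_ hg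
  · show S.d (T1 0) = 1
    rw [T1_zero, S.hone]
  · rintro s hs j hj
    have hs' : ∃ t, S.v s = S.d (g1c t) := by
      rcases hs with rfl | hs
      · exact ⟨0, h1a⟩
      · rw [Set.mem_singleton_iff] at hs
        rw [hs]
        exact ⟨1, h1b⟩
    obtain ⟨t, ht⟩ := hs'
    obtain ⟨h1, h2, h3⟩ := row1_spec t hj
    obtain ⟨h, hh, eh⟩ := hT2 _ h2
    refine ⟨_, h1, h, hh, ?_⟩
    rw [ht, ← S.hmm, h3, S.hmm, eh]

end Level1

/-! ### Level 0 -/

section Level0

theorem row0_spec (s : ℕ) {j : ℕ} (hj : j < 6156) :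
    get 13 8191 (f0g s) j < 6156 ∧ Nat.land (get 15 32767 (r0g s) j) 255 < 255 ∧
      Nat.shiftRight (get 15 32767 (r0g s) j) 8 < 96 ∧
      S.d (g0c s) * S.d (T0 j) = S.d (T0 (get 13 8191 (f0g s) j)) *
        (S.d (T1 (Nat.land (get 15 32767 (r0g s) j) 255)) * S.d (T2 (Nat.shiftRight (get 15 32767 (r0g s) j) 8))) := by
  have h : row0OK (g0c s) (f0g s) (r0g s) j = true := by
    cases s with
    | zero => exact (allB_iff _ _).mp row0a_ok j hj
    | succ n => exact (allB_iff _ _).mp row0b_ok j hj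
  simp only [row0OK, frc_eq, Bool.and_eq_true, Nat.blt_eq] at h
  obtain ⟨h1, h2⟩ := h
  generalize get 15 32767 (r0g s) j = e at h2 ⊢
  cases e with
  | zero =>
    have h3 : Nat.beq (mm (g0c s) (T0 j)) (T0 (get 13 8191 (f0g s) j)) = true := h2
    rw [Nat.beq_eq] at h3
    have e1 : Nat.land 0 255 = 0 := rfl
    have e2 : Nat.shiftRight 0 8 = 0 := rfl
    rw [e1, e2, T1_zero, T2_zero, S.hone, one_mul, mul_one, ← S.hmm, h3]
    exact ⟨h1, by norm_num, by norm_num, rfl⟩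
  | succ e =>
    have h3 : (Nat.blt (Nat.land (e + 1) 255) 255 && Nat.blt (Nat.shiftRight (e + 1) 8) 96 &&
      Nat.beq (mm (g0c s) (T0 j)) (mm (T0 (get 13 8191 (f0g s) j))
        (mm (T1 (Nat.land (e + 1) 255)) (T2 (Nat.shiftRight (e + 1) 8))))) = true := by
      simpa only [frc_eq] using h2
    simp only [Bool.and_eq_true, Nat.blt_eq, Nat.beq_eq] at h3
    obtain ⟨⟨h4, h5⟩, h6⟩ := h3
    refine ⟨h1, h4, h5, ?_⟩
    rw [← S.hmm, h6, S.hmm, S.hmm]

theorem g0c_rep (s : ℕ) : S.Rep S.M (g0c s) := by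
  cases s with
  | zero => exact ⟨S.gA, Subgroup.subset_closure (Set.mem_insert _ _), S.hgA⟩
  | succ n => exact ⟨S.gB, Subgroup.subset_closure (Set.mem_insert_of_mem _ rfl), S.hgB⟩

theorem T0_rep : ∀ k, k < 6156 → S.Rep S.M (T0 k) := by
  refine tree_rep (fun k => k) p0 ?_ ?_
  · intro j _ h0
    show T0 j = oneC
    have h0' : j = 0 := h0
    rw [h0', T0_zero]
  · intro j hj h0
    have h0' : j ≠ 0 := h0
    obtain ⟨m, rfl⟩ := Nat.exists_eq_succ_of_ne_zero h0'
    have h : tree0OK (Nat.succ m) = true := (allB_iff _ _).mp Check.tree0_ok _ hj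
    have h' : (Nat.blt (p0 (Nat.succ m)) (Nat.succ m) &&
      Nat.beq (get 13 8191 (f0g (s0 (Nat.succ m))) (p0 (Nat.succ m))) (Nat.succ m) &&
      Nat.beq (get 15 32767 (r0g (s0 (Nat.succ m))) (p0 (Nat.succ m))) 0) = true := h
    simp only [Bool.and_eq_true, Nat.blt_eq, Nat.beq_eq] at h'
    obtain ⟨⟨h1, h2⟩, h3⟩ := h'
    refine ⟨by omega, h1, g0c (s0 (Nat.succ m)), g0c_rep _, ?_⟩
    obtain ⟨_, _, _, h4⟩ := row0_spec (S := S) (s0 (Nat.succ m)) (j := p0 (Nat.succ m)) (by omega)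
    have e1 : Nat.land 0 255 = 0 := rfl
    have e2 : Nat.shiftRight 0 8 = 0 := rfl
    rw [h2, h3, e1, e2, T1_zero, T2_zero, S.hone, one_mul, mul_one] at h4
    exact h4.symm

variable [Finite Γ]

theorem M_cover {H : Subgroup Γ} (hT1 : ∀ k, k < 255 → S.Rep H (T1 k)) (hT2 : ∀ k, k < 96 → S.Rep H (T2 k)) (g : Γ)
    (hg : g ∈ S.M) : ∃ j, j < 6156 ∧ ∃ h ∈ H, S.v g = S.d (T0 j) * S.v h := by
  refine cover_of_table S.v (T := fun k => S.d (T0 k)) (n := 6156) (j₀ := 0) (by norm_num) ?_ ?_ hg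
  · show S.d (T0 0) = 1
    rw [T0_zero, S.hone]
  · rintro s hs j hj
    have hs' : ∃ t, S.v s = S.d (g0c t) := by
      rcases hs with rfl | hs
      · exact ⟨0, S.hgA⟩
      · rw [Set.mem_singleton_iff] at hs
        rw [hs]
        exact ⟨1, S.hgB⟩
    obtain ⟨t, ht⟩ := hs'
    obtain ⟨h1, h2, h3, h4⟩ := row0_spec (S := S) t hj
    obtain ⟨h, hh, eh⟩ := (hT1 _ h2).mul (hT2 _ h3)
    refine ⟨_, h1, h, hh, ?_⟩
    rw [ht, h4, eh, S.hmm]

end Level0

/-! ### Elements with a position in the chain -/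

section Sift

/-- The inverse of `A`. -/
theorem cAi_rep : S.Rep S.M cAi := by
  refine ⟨S.gA⁻¹, S.M.inv_mem (Subgroup.subset_closure (Set.mem_insert _ _)), ?_⟩
  have h1 : S.v S.gA⁻¹ * S.v S.gA = 1 := by rw [← map_mul, inv_mul_cancel, map_one]
  have h2 : S.d cA * S.d cAi = 1 := by rw [← S.hmm, cA_inv.1, S.hone]
  calc S.v S.gA⁻¹ = S.v S.gA⁻¹ * (S.d cA * S.d cAi) := by rw [h2, mul_one]
    _ = S.d cAi := by rw [← S.hgA, ← mul_assoc, h1, one_mul]

/-- The inverse of `B`. -/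
theorem cBi_rep : S.Rep S.M cBi := by
  refine ⟨S.gB⁻¹, S.M.inv_mem (Subgroup.subset_closure (Set.mem_insert_of_mem _ rfl)), ?_⟩
  have h1 : S.v S.gB⁻¹ * S.v S.gB = 1 := by rw [← map_mul, inv_mul_cancel, map_one]
  have h2 : S.d cB * S.d cBi = 1 := by rw [← S.hmm, cB_inv.1, S.hone]
  calc S.v S.gB⁻¹ = S.v S.gB⁻¹ * (S.d cB * S.d cBi) := by rw [h2, mul_one]
    _ = S.d cBi := by rw [← S.hgB, ← mul_assoc, h1, one_mul]

theorem lt0_rep (l : ℕ) : S.Rep S.M (lt0 l) := by
  cases l with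
  | zero => exact g0c_rep 0
  | succ l =>
    cases l with
    | zero => exact cAi_rep
    | succ l =>
      cases l with
      | zero => exact g0c_rep 1
      | succ l => exact cBi_rep

theorem wcode_rep (u : List ℕ) : S.Rep S.M (wcode u) := by
  induction u with
  | nil => exact Setup.Rep.one _
  | cons l u ih => exact (lt0_rep l).mul ih

theorem s1a_rep : S.Rep S.M s1a := by
  have h : wcode w1a = s1a := by
    rw [← Nat.beq_eq]
    exact w1a_ok
  rw [← h]
  exact wcode_rep _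

theorem s1b_rep : S.Rep S.M s1b := by
  have h : wcode w1b = s1b := by
    rw [← Nat.beq_eq]
    exact w1b_ok
  rw [← h]
  exact wcode_rep _

/-- The elements sifting through the chain are in the group. -/
theorem rep_of_sift {L : Subgroup Γ} (hLM : L ≤ S.M) (hT1 : ∀ k, k < 255 → S.Rep L (T1 k))
    (hT2 : ∀ k, k < 96 → S.Rep L (T2 k)) {t : ℕ × ℕ × ℕ} {c : ℕ} (h : siftOK t c = true) : S.Rep S.M c := by
  simp only [siftOK, Bool.and_eq_true, Nat.blt_eq, Nat.beq_eq] at h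
  obtain ⟨⟨⟨h1, h2⟩, h3⟩, h4⟩ := h
  rw [← h4]
  exact (T0_rep _ h1).mul (Setup.Rep.mono hLM ((hT1 _ h2).mul (hT2 _ h3)))

end Sift

/-! ### Tables and orders -/

section Tables

variable [Finite Γ]

theorem tb_strict {big n : ℕ} (hs : allB (sortOK big) (n - 1) = true) {i j : ℕ} (hij : i < j) (hj : j < n) :
    tb big i < tb big j := by
  induction j with
  | zero => exact absurd hij (by omega)
  | succ m ih =>
    have h1 : sortOK big m = true := (allB_iff _ _).mp hs m (by omega)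
    have h2 : tb big m < tb big (m + 1) := by
      have := h1
      simp only [sortOK, Nat.blt_eq] at this
      exact this
    rcases Nat.lt_succ_iff_lt_or_eq.mp hij with h3 | h3
    · exact lt_trans (ih h3 (by omega)) h2
    · rw [h3]
      exact h2

/-- The order of a subgroup given by a complete table. -/
theorem table_card {G : Subgroup Γ} {X : Set Γ} (hG : G = Subgroup.closure X) (gen rows : ℕ → ℕ)
    (big n wr mr wt mt sh mp sp ms tr root : ℕ) (hgen : ∀ s, S.Rep G (gen s)) (hX : ∀ x ∈ X, ∃ s, S.v x = S.d (gen s))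
    (hr : ∀ s, allB (rowTOK big n wr mr (gen s) (rows s)) n = true)
    (ht : allB (treeTOK big n wr mr wt mt sh mp sp ms tr rows) n = true) (hs : allB (sortOK big) (n - 1) = true)
    (hroot : tb big root = oneC) (hrn : root < n) : Nat.card G = n := by
  have hrow : ∀ s i, i < n → get wr mr (rows s) i < n ∧ mm (gen s) (tb big i) = tb big (get wr mr (rows s) i) := by
    intro s i hi
    have h := (allB_iff _ _).mp (hr s) i hi
    simp only [rowTOK, frc_eq, Bool.and_eq_true, Nat.blt_eq, Nat.beq_eq] at h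
    exact h
  have hrep : ∀ j, j < n → S.Rep G (tb big j) := by
    refine tree_rep (dT wt mt sh tr) (pT wt mt mp tr) ?_ ?_
    · intro j hj h0
      have h := (allB_iff _ _).mp ht j hj
      rw [treeTOK, h0] at h
      exact Nat.eq_of_beq_eq_true h
    · intro j hj h0
      have h := (allB_iff _ _).mp ht j hj
      have e : ∀ (d : ℕ) (A B : Bool), d ≠ 0 → Nat.rec (motive := fun _ => Bool) A (fun _ _ => B) d = B := by
        intro d A B hd
        cases d with
        | zero => exact absurd rfl hd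
        | succ n => rfl
      rw [treeTOK, e _ _ _ h0] at h
      have h' := h
      simp only [Bool.and_eq_true, Nat.blt_eq, Nat.beq_eq] at h'
      obtain ⟨⟨h1, h2⟩, h3⟩ := h'
      refine ⟨h1, h2, gen (sT wt mt ms sp tr j), hgen _, ?_⟩
      have h4 := (hrow (sT wt mt ms sp tr j) _ h1).2
      rw [h3] at h4
      rw [← S.hmm, h4]
  -- the map from the table to the group
  choose! f hf ef using hrep
  have hcover : ∀ g ∈ G, ∃ j, j < n ∧ ∃ h ∈ (⊥ : Subgroup Γ), S.v g = S.d (tb big j) * S.v h := by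
    intro g hg
    rw [hG] at hg
    refine cover_of_table S.v (T := fun k => S.d (tb big k)) (n := n) (j₀ := root) hrn ?_ ?_ hg
    · show S.d (tb big root) = 1
      rw [hroot, S.hone]
    · rintro x hx j hj
      obtain ⟨s, hs'⟩ := hX x hx
      obtain ⟨h1, h3⟩ := hrow s j hj
      refine ⟨_, h1, 1, Subgroup.one_mem _, ?_⟩
      rw [hs', ← S.hmm, h3, map_one, mul_one]
  let φ : Fin n → G := fun j => ⟨f j, hf j j.2⟩
  have hφ : Function.Bijective φ := by
    constructor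
    · intro a b hab
      have h1 : f a = f b := congrArg Subtype.val hab
      have h2 : S.d (tb big a) = S.d (tb big b) := by
        rw [← ef a a.2, ← ef b b.2, h1]
      have h3 : tb big a = tb big b := S.hinj _ _ (tb_lt _ _) (tb_lt _ _) h2
      apply Fin.ext
      rcases Nat.lt_trichotomy (a : ℕ) b with h4 | h4 | h4
      · exact absurd h3 (ne_of_lt (tb_strict hs h4 b.2))
      · exact h4
      · exact absurd h3.symm (ne_of_lt (tb_strict hs h4 a.2))
    · rintro ⟨g, hg⟩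
      obtain ⟨j, hj, h, hh, e⟩ := hcover g hg
      rw [Subgroup.mem_bot] at hh
      rw [hh, map_one, mul_one] at e
      refine ⟨⟨j, hj⟩, Subtype.ext (S.hv ?_)⟩
      show S.v (f j) = S.v g
      rw [ef j hj, e]
  rw [← Nat.card_congr (Equiv.ofBijective φ hφ)]
  simp

theorem pw_dec (c n : ℕ) : S.d (pw c n) = S.d c ^ n := by
  induction n with
  | zero =>
    rw [pow_zero]
    exact S.hone
  | succ n ih =>
    rw [pw, S.hmm, ih, pow_succ']

/-- A prime dividing the order of a group from an element of that order. -/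
theorem prime_dvd {H : Subgroup Γ} {c p : ℕ} [Fact p.Prime] (hc : S.Rep H c) (h1 : Nat.beq (pw c p) oneC = true)
    (h2 : c ≠ oneC) (h3 : c < 2 ^ 162) (h4 : oneC < 2 ^ 162) : p ∣ Nat.card H := by
  obtain ⟨x, hx, e⟩ := hc
  have h5 : pw c p = oneC := Nat.eq_of_beq_eq_true h1
  have h6 : x ^ p = 1 := by
    apply S.hv
    rw [map_pow, e, ← pw_dec, h5, S.hone, map_one]
  have h7 : x ≠ 1 := by
    rintro rfl
    apply h2
    apply S.hinj _ _ h3 h4
    rw [← e, map_one, S.hone]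
  have h8 : orderOf x = p := orderOf_eq_prime h6 h7
  have h9 : orderOf (⟨x, hx⟩ : H) = p := by
    rw [← h8]
    exact Subgroup.orderOf_mk _ _
  rw [← h9]
  exact orderOf_dvd_natCard _

end Tables

/-! ### The chain -/

section Assemble

variable [Finite Γ]

variable (S) in
/-- The subgroup `L` with its tables. -/
theorem chain_exists : ∃ L : Subgroup Γ, L ≤ S.M ∧ Nat.card L ≤ 24480 ∧ (∀ k, k < 255 → S.Rep L (T1 k)) ∧
    (∀ k, k < 96 → S.Rep L (T2 k)) := by
  obtain ⟨x1a, hx1a, h1a⟩ : S.Rep S.M (g1c 0) := s1a_rep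
  obtain ⟨x1b, hx1b, h1b⟩ : S.Rep S.M (g1c 1) := s1b_rep
  have hLM : Subgroup.closure {x1a, x1b} ≤ S.M := by
    refine (Subgroup.closure_le _).mpr ?_
    rintro _ (rfl | h)
    · exact hx1a
    · rw [Set.mem_singleton_iff] at h
      rw [h]
      exact hx1b
  have hT1 := T1_rep h1a h1b
  have e2 : S.Rep (Subgroup.closure {x1a, x1b}) (g2c 0) := T2_mem_L h1a h1b (i := 143) (by norm_num) link2.2.1
  have e3 : S.Rep (Subgroup.closure {x1a, x1b}) (g2c 1) := T2_mem_L h1a h1b (i := 224) (by norm_num) link2.2.2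
  obtain ⟨x2a, hx2a, h2a⟩ := e2
  obtain ⟨x2b, hx2b, h2b⟩ := e3
  have hG2L : Subgroup.closure {x2a, x2b} ≤ Subgroup.closure {x1a, x1b} := by
    refine (Subgroup.closure_le _).mpr ?_
    rintro _ (rfl | h)
    · exact hx2a
    · rw [Set.mem_singleton_iff] at h
      rw [h]
      exact hx2b
  have hT2G := T2_rep h2a h2b
  have hc2 := G2_card h2a h2b
  have hL : Nat.card (Subgroup.closure {x1a, x1b}) ≤ 255 * Nat.card (Subgroup.closure {x2a, x2b}) :=
    card_le_of_cover S.v S.hv (L_cover h1a h1b hT2G)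
  exact ⟨_, hLM, by omega, hT1, fun k hk => Setup.Rep.mono hG2L (hT2G k hk)⟩

theorem order_dvd {L : Subgroup Γ} (hLM : L ≤ S.M) (hT1 : ∀ k, k < 255 → S.Rep L (T1 k))
    (hT2 : ∀ k, k < 96 → S.Rep L (T2 k)) : 150698880 ∣ Nat.card S.M := by
  -- the subgroup of order 3^6
  obtain ⟨x3a, hx3a, e3a⟩ := rep_of_sift hLM hT1 hT2 sift_p3a_ok
  obtain ⟨x3b, hx3b, e3b⟩ := rep_of_sift hLM hT1 hT2 sift_p3b_ok
  have hP3 : Nat.card (Subgroup.closure {x3a, x3b}) = 729 := by
    refine table_card (S := S) rfl (fun s => Nat.rec p3a (fun _ _ => p3b) s) r3g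
      P3big 729 10 1023 16 65535 11 1023 10 1 tr3 root3 ?_ ?_ ?_ tree3_ok sort3_ok root3_ok.1 root3_ok.2
    · intro s
      cases s with
      | zero => exact ⟨x3a, Subgroup.subset_closure (Set.mem_insert _ _), e3a⟩
      | succ n => exact ⟨x3b, Subgroup.subset_closure (Set.mem_insert_of_mem _ rfl), e3b⟩
    · rintro x (rfl | h)
      · exact ⟨0, e3a⟩
      · rw [Set.mem_singleton_iff] at h
        rw [h]
        exact ⟨1, e3b⟩
    · intro s
      cases s with
      | zero => exact row3a_ok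
      | succ n => exact row3b_ok
  have h3M : Subgroup.closure {x3a, x3b} ≤ S.M := by
    refine (Subgroup.closure_le _).mpr ?_
    rintro _ (rfl | h)
    · exact hx3a
    · rw [Set.mem_singleton_iff] at h
      rw [h]
      exact hx3b
  have d3 : 729 ∣ Nat.card S.M := by
    rw [← hP3]
    exact Subgroup.card_dvd_of_le h3M
  -- the subgroup of order 2^7
  obtain ⟨x2a, hx2a, e2a⟩ := rep_of_sift hLM hT1 hT2 sift_p2a_ok
  obtain ⟨x2b, hx2b, e2b⟩ := rep_of_sift hLM hT1 hT2 sift_p2b_ok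
  obtain ⟨x2c, hx2c, e2c⟩ := rep_of_sift hLM hT1 hT2 sift_p2c_ok
  have hP2 : Nat.card (Subgroup.closure {x2a, x2b, x2c}) = 128 := by
    refine table_card (S := S) rfl (fun s => Nat.rec p2a (fun n _ => Nat.rec p2b (fun _ _ => p2c) n) s) r2xg
      P2big 128 8 255 14 16383 10 255 8 3 tr2x root2x ?_ ?_ ?_ tree2x_ok sort2x_ok root2x_ok.1 root2x_ok.2
    · intro s
      cases s with
      | zero => exact ⟨x2a, Subgroup.subset_closure (by simp), e2a⟩
      | succ n =>
        cases n with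
        | zero => exact ⟨x2b, Subgroup.subset_closure (by simp), e2b⟩
        | succ n => exact ⟨x2c, Subgroup.subset_closure (by simp), e2c⟩
    · rintro x (rfl | rfl | h)
      · exact ⟨0, e2a⟩
      · exact ⟨1, e2b⟩
      · rw [Set.mem_singleton_iff] at h
        rw [h]
        exact ⟨2, e2c⟩
    · intro s
      cases s with
      | zero => exact row2xa_ok
      | succ n =>
        cases n with
        | zero => exact row2xb_ok
        | succ n => exact row2xc_ok
  have h2M : Subgroup.closure {x2a, x2b, x2c} ≤ S.M := by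
    refine (Subgroup.closure_le _).mpr ?_
    rintro _ (rfl | rfl | h)
    · exact hx2a
    · exact hx2b
    · rw [Set.mem_singleton_iff] at h
      rw [h]
      exact hx2c
  have d2 : 128 ∣ Nat.card S.M := by
    rw [← hP2]
    exact Subgroup.card_dvd_of_le h2M
  -- the primes
  have f5 : Fact (Nat.Prime 5) := ⟨by norm_num⟩
  have f17 : Fact (Nat.Prime 17) := ⟨by norm_num⟩
  have f19 : Fact (Nat.Prime 19) := ⟨by norm_num⟩
  have d5 : 5 ∣ Nat.card S.M :=
    prime_dvd (rep_of_sift hLM hT1 hT2 sift_r5_ok) pw_ok.1 ne_ok.1 lt_ok.1 lt_ok.2.2.2.2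
  have d17 : 17 ∣ Nat.card S.M :=
    prime_dvd (rep_of_sift hLM hT1 hT2 sift_r17_ok) pw_ok.2.1 ne_ok.2.1 lt_ok.2.1 lt_ok.2.2.2.2
  have d19 : 19 ∣ Nat.card S.M :=
    prime_dvd (g0c_rep (S := S) 0) pw_ok.2.2.1 ne_ok.2.2.1 lt_ok.2.2.1 lt_ok.2.2.2.2
  have c1 : Nat.Coprime 729 128 := by norm_num
  have c2 : Nat.Coprime (729 * 128) 5 := by norm_num
  have c3 : Nat.Coprime (729 * 128 * 5) 17 := by norm_num
  have c4 : Nat.Coprime (729 * 128 * 5 * 17) 19 := by norm_num
  have := c4.mul_dvd_of_dvd_of_dvd (c3.mul_dvd_of_dvd_of_dvd (c2.mul_dvd_of_dvd_of_dvd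
    (c1.mul_dvd_of_dvd_of_dvd d3 d2) d5) d17) d19
  have e : 729 * 128 * 5 * 17 * 19 = 150698880 := by norm_num
  rwa [e] at this

theorem orders {L : Subgroup Γ} (hLM : L ≤ S.M) (hLc : Nat.card L ≤ 24480) (hT1 : ∀ k, k < 255 → S.Rep L (T1 k))
    (hT2 : ∀ k, k < 96 → S.Rep L (T2 k)) : Nat.card S.M = 150698880 ∧ Nat.card L = 24480 := by
  have h1 := Nat.le_of_dvd Nat.card_pos (order_dvd hLM hT1 hT2)
  have h2 : Nat.card S.M ≤ 6156 * Nat.card L :=
    card_le_of_cover S.v S.hv (M_cover hT1 hT2)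
  omega

theorem gA_mem : S.gA ∈ S.M := Subgroup.subset_closure (Set.mem_insert _ _)
theorem gB_mem : S.gB ∈ S.M := Subgroup.subset_closure (Set.mem_insert_of_mem _ rfl)

theorem rho_exists {L : Subgroup Γ} (hLM : L ≤ S.M) (hLc : Nat.card L = 24480) (hMc : Nat.card S.M = 150698880)
    (hT1 : ∀ k, k < 255 → S.Rep L (T1 k)) (hT2 : ∀ k, k < 96 → S.Rep L (T2 k)) :
    ∃ ρ : S.M →* Equiv.Perm (Fin 6156),
      ρ ⟨S.gA, gA_mem⟩ = permOf 13 8191 6156 eA ∧ ρ ⟨S.gB, gB_mem⟩ = permOf 13 8191 6156 eB ∧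
      ∀ z : S.M, (z : Γ) ∈ L → (∀ g : S.M, z * g = g * z) → ρ z = 1 := by
  have hrep : ∀ j : Fin 6156, ∃ g : S.M, S.v g = S.d (T0 j) := by
    intro j
    obtain ⟨g, hg, e⟩ := T0_rep (S := S) j j.2
    exact ⟨⟨g, hg⟩, e⟩
  choose t ht using hrep
  have hcover : ∀ g : S.M, ∃ j, ∃ h ∈ L.subgroupOf S.M, g = t j * h := by
    intro g
    obtain ⟨j, hj, h, hh, e⟩ := M_cover hT1 hT2 g g.2
    refine ⟨⟨j, hj⟩, ⟨h, hLM hh⟩, Subgroup.mem_subgroupOf.mpr hh, Subtype.ext (S.hv ?_)⟩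
    rw [e]
    show _ = S.v ((t ⟨j, hj⟩ : Γ) * h)
    rw [map_mul, ht]
  have hcard : Nat.card S.M = 6156 * Nat.card (L.subgroupOf S.M) := by
    rw [Nat.card_congr (Subgroup.subgroupOfEquivOfLe hLM).toEquiv, hLc, hMc]
  obtain ⟨ρ, hρ1, _⟩ := coset_perm (L.subgroupOf S.M) t hcover hcard
  have hrow : ∀ (s : ℕ) (x : S.M), S.v x = S.d (g0c s) → ∀ j : Fin 6156, (ρ x j : ℕ) = get 13 8191 (f0g s) j := by
    intro s x hx j
    obtain ⟨h1, h2, h3, h4⟩ := row0_spec (S := S) s j.2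
    obtain ⟨y, hy, ey⟩ := (hT1 _ h2).mul (hT2 _ h3)
    have := hρ1 x j ⟨get 13 8191 (f0g s) j, h1⟩ ⟨⟨y, hLM hy⟩, Subgroup.mem_subgroupOf.mpr hy, Subtype.ext (S.hv ?_)⟩
    · rw [this]
    · show S.v ((x : Γ) * (t j : Γ)) = S.v ((t ⟨get 13 8191 (f0g s) j, h1⟩ : Γ) * y)
      rw [map_mul, map_mul, hx, ht, ht, h4, ey, S.hmm]
  have hvalid : ∀ e ∈ gens, validB 13 8191 deg e = true := fun e he => List.all_eq_true.mp valid_gens e he
  refine ⟨ρ, ?_, ?_, ?_⟩
  · refine Equiv.ext fun j => Fin.ext ?_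
    rw [permOf_apply (hvalid eA (List.mem_cons_self))]
    exact hrow 0 _ S.hgA j
  · refine Equiv.ext fun j => Fin.ext ?_
    rw [permOf_apply (hvalid eB (List.mem_cons_of_mem _ List.mem_cons_self))]
    exact hrow 1 _ S.hgB j
  · intro z hz hc
    refine Equiv.ext fun j => ?_
    rw [hρ1 z j j ⟨z, Subgroup.mem_subgroupOf.mpr hz, hc (t j)⟩]
    rfl

theorem range_rho (ρ : S.M →* Equiv.Perm (Fin 6156)) (h1 : ρ ⟨S.gA, gA_mem⟩ = permOf 13 8191 6156 eA)
    (h2 : ρ ⟨S.gB, gB_mem⟩ = permOf 13 8191 6156 eB) : ρ.range = P := by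
  apply le_antisymm
  · rintro _ ⟨⟨x, hx⟩, rfl⟩
    have hx' := hx
    revert hx
    unfold Setup.M at hx'
    induction hx' using Subgroup.closure_induction with
    | mem y hy =>
      intro hx
      rcases hy with rfl | hy
      · show ρ ⟨S.gA, _⟩ ∈ P
        rw [h1]
        exact permOf_mem_genGroup (List.mem_cons_self)
      · rw [Set.mem_singleton_iff] at hy
        subst hy
        show ρ ⟨S.gB, _⟩ ∈ P
        rw [h2]
        exact permOf_mem_genGroup (List.mem_cons_of_mem _ List.mem_cons_self)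
    | one =>
      intro hx
      show ρ 1 ∈ P
      rw [map_one]
      exact Subgroup.one_mem _
    | mul a b ha hb iha ihb =>
      intro hx
      have ha' : a ∈ S.M := ha
      have hb' : b ∈ S.M := hb
      have e : (⟨a * b, hx⟩ : S.M) = ⟨a, ha'⟩ * ⟨b, hb'⟩ := rfl
      show ρ ⟨a * b, hx⟩ ∈ P
      rw [e, map_mul]
      exact Subgroup.mul_mem _ (iha ha') (ihb hb')
    | inv a ha iha =>
      intro hx
      have ha' : a ∈ S.M := ha
      have e : (⟨a⁻¹, hx⟩ : S.M) = (⟨a, ha'⟩ : S.M)⁻¹ := rfl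
      show ρ ⟨a⁻¹, hx⟩ ∈ P
      rw [e, map_inv]
      exact Subgroup.inv_mem _ (iha ha')
  · refine (Subgroup.closure_le _).mpr ?_
    rintro _ ⟨e, he, rfl⟩
    rcases List.mem_cons.mp he with rfl | he
    · exact ⟨_, h1⟩
    · rcases List.mem_cons.mp he with rfl | he
      · exact ⟨_, h2⟩
      · exact absurd he (by simp)

variable (S) in
/-- The main theorem on the chain. -/
theorem main : Nat.card (Subgroup.center S.M) = 3 ∧ Nat.card S.M = 150698880 ∧
    Nat.card (S.M ⧸ Subgroup.center S.M) = 50232960 ∧ IsSimpleGroup (S.M ⧸ Subgroup.center S.M) ∧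
    Nat.card P = 50232960 := by
  obtain ⟨L, hLM, hLc, hT1, hT2⟩ := chain_exists S
  obtain ⟨hMc, hLc'⟩ := orders hLM hLc hT1 hT2
  obtain ⟨ρ, h1, h2, hker⟩ := rho_exists hLM hLc' hMc hT1 hT2
  have hrange := range_rho ρ h1 h2
  -- the central element
  have hzL : S.Rep L zc := by
    have h := sift_zc_ok
    simp only [siftOK, Bool.and_eq_true, Nat.blt_eq, Nat.beq_eq] at h
    obtain ⟨⟨⟨_, h3⟩, _⟩, h4⟩ := h
    rw [sift_zc_eq.1, sift_zc_eq.2] at h4
    refine (hT1 _ h3).of_eq ?_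
    rw [← h4, S.hmm, S.hmm, T0_zero, T2_zero, S.hone, one_mul, mul_one]
  obtain ⟨z, hzl, ez⟩ := hzL
  have hcomm : ∀ g ∈ S.M, z * g = g * z := by
    have hA : z * S.gA = S.gA * z := by
      apply S.hv
      rw [map_mul, map_mul, ez, S.hgA, ← S.hmm, ← S.hmm, Nat.eq_of_beq_eq_true zc_comm.1]
    have hB : z * S.gB = S.gB * z := by
      apply S.hv
      rw [map_mul, map_mul, ez, S.hgB, ← S.hmm, ← S.hmm, Nat.eq_of_beq_eq_true zc_comm.2]
    intro g hg
    have hg' : g ∈ Subgroup.centralizer {z} := by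
      refine (Subgroup.closure_le (Subgroup.centralizer {z})).mpr ?_ hg
      rintro _ (rfl | h)
      · rw [SetLike.mem_coe, Subgroup.mem_centralizer_singleton_iff]
        exact hA.symm
      · rw [Set.mem_singleton_iff] at h
        rw [h, SetLike.mem_coe, Subgroup.mem_centralizer_singleton_iff]
        exact hB.symm
    rw [Subgroup.mem_centralizer_singleton_iff] at hg'
    exact hg'.symm
  let z' : S.M := ⟨z, hLM hzl⟩
  have hcomm' : ∀ g : S.M, z' * g = g * z' := fun g => Subtype.ext (hcomm g g.2)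
  have hzc : z' ∈ Subgroup.center S.M := Subgroup.mem_center_iff.mpr fun g => (hcomm' g).symm
  have hz1 : ρ z' = 1 := hker z' hzl hcomm'
  have hord : orderOf z' = 3 := by
    have f3 : Fact (Nat.Prime 3) := ⟨by norm_num⟩
    have h5 : pw zc 3 = oneC := Nat.eq_of_beq_eq_true pw_ok.2.2.2
    have h6 : z ^ 3 = 1 := by
      apply S.hv
      rw [map_pow, ez, ← pw_dec, h5, S.hone, map_one]
    have h7 : z ≠ 1 := by
      rintro rfl
      apply ne_ok.2.2.2
      apply S.hinj _ _ lt_ok.2.2.2.1 lt_ok.2.2.2.2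
      rw [← ez, map_one, S.hone]
    have h8 : orderOf z = 3 := orderOf_eq_prime h6 h7
    rw [← h8]
    exact Subgroup.orderOf_mk _ _
  -- the surjection to P
  let ρ' : S.M →* P := ρ.codRestrict P (fun x => by
    rw [← hrange]
    exact ⟨x, rfl⟩)
  have hsurj : Function.Surjective ρ' := by
    rintro ⟨y, hy⟩
    rw [← hrange] at hy
    obtain ⟨x, hx⟩ := hy
    exact ⟨x, Subtype.ext hx⟩
  have hz1' : ρ' z' = 1 := Subtype.ext hz1
  -- the order of P
  have hcardP : Nat.card P = 50232960 := by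
    have h3 := Subgroup.card_mul_index ρ'.ker
    have h4 : ρ'.ker.index = Nat.card P := by
      rw [Subgroup.index_ker, MonoidHom.range_eq_top.mpr hsurj]
      simp
    have h5 : 3 ∣ Nat.card ρ'.ker := by
      have h6 : orderOf (⟨z', hz1'⟩ : ρ'.ker) = 3 := by
        rw [← hord]
        exact Subgroup.orderOf_mk _ _
      rw [← h6]
      exact orderOf_dvd_natCard _
    have h6 := card_ge
    rw [h4, hMc] at h3
    have h7 : 3 ≤ Nat.card ρ'.ker := Nat.le_of_dvd Nat.card_pos h5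
    have h8 : 3 * Nat.card P ≤ Nat.card ρ'.ker * Nat.card P := Nat.mul_le_mul_right _ h7
    omega
  have hsimple := P_simple hcardP
  have hcen := P_center hcardP
  obtain ⟨r1, r2, r3⟩ := quotient_facts ρ' hsurj hcen (N := 50232960) (by rw [hMc]) hcardP (by norm_num) hzc hord hz1'
  exact ⟨r1, hMc, r2, r3, hcardP⟩

end Assemble

end Cfsg.Agent.Lib.Compute.J3.Main
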