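import Cfsg.Agent.Lib.Compute.J3.MultDefs

/-!
# The kernel checks of the Schreier elements of the table of `J₃`
-/

set_option autoImplicit false

namespace Cfsg.Agent.Lib.Compute.J3.MultDefs

open Cfsg.Agent.Lib.Compute.PermCert Cfsg.Agent.Lib.Compute.PeelCert
open Cfsg.Agent.Lib.Compute.J3.Data Cfsg.Agent.Lib.Compute.J3.F4Mat Cfsg.Agent.Lib.Compute.J3.MultData
open Cfsg.Agent.Lib.Compute.J3.Check Cfsg.Agent.Lib.Compute.J3.InvCheck

theorem edgeR0 : allB (fun r => edgeOK (Nat.add (Nat.mul 513 0) r)) 513 = true := by decide +kernel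
theorem edgeR1 : allB (fun r => edgeOK (Nat.add (Nat.mul 513 1) r)) 513 = true := by decide +kernel
theorem edgeR2 : allB (fun r => edgeOK (Nat.add (Nat.mul 513 2) r)) 513 = true := by decide +kernel
theorem edgeR3 : allB (fun r => edgeOK (Nat.add (Nat.mul 513 3) r)) 513 = true := by decide +kernel
theorem edgeR4 : allB (fun r => edgeOK (Nat.add (Nat.mul 513 4) r)) 513 = true := by decide +kernel
theorem edgeR5 : allB (fun r => edgeOK (Nat.add (Nat.mul 513 5) r)) 513 = true := by decide +kernel
theorem edgeR6 : allB (fun r => edgeOK (Nat.add (Nat.mul 513 6) r)) 513 = true := by decide +kernel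
theorem edgeR7 : allB (fun r => edgeOK (Nat.add (Nat.mul 513 7) r)) 513 = true := by decide +kernel
theorem edgeR8 : allB (fun r => edgeOK (Nat.add (Nat.mul 513 8) r)) 513 = true := by decide +kernel
theorem edgeR9 : allB (fun r => edgeOK (Nat.add (Nat.mul 513 9) r)) 513 = true := by decide +kernel
theorem edgeR10 : allB (fun r => edgeOK (Nat.add (Nat.mul 513 10) r)) 513 = true := by decide +kernel
theorem edgeR11 : allB (fun r => edgeOK (Nat.add (Nat.mul 513 11) r)) 513 = true := by decide +kernel
theorem edgeR12 : allB (fun r => edgeOK (Nat.add (Nat.mul 513 12) r)) 513 = true := by decide +kernel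
theorem edgeR13 : allB (fun r => edgeOK (Nat.add (Nat.mul 513 13) r)) 513 = true := by decide +kernel
theorem edgeR14 : allB (fun r => edgeOK (Nat.add (Nat.mul 513 14) r)) 513 = true := by decide +kernel
theorem edgeR15 : allB (fun r => edgeOK (Nat.add (Nat.mul 513 15) r)) 513 = true := by decide +kernel
theorem edgeR16 : allB (fun r => edgeOK (Nat.add (Nat.mul 513 16) r)) 513 = true := by decide +kernel
theorem edgeR17 : allB (fun r => edgeOK (Nat.add (Nat.mul 513 17) r)) 513 = true := by decide +kernel
theorem edgeR18 : allB (fun r => edgeOK (Nat.add (Nat.mul 513 18) r)) 513 = true := by decide +kernel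
theorem edgeR19 : allB (fun r => edgeOK (Nat.add (Nat.mul 513 19) r)) 513 = true := by decide +kernel
theorem edgeR20 : allB (fun r => edgeOK (Nat.add (Nat.mul 513 20) r)) 513 = true := by decide +kernel
theorem edgeR21 : allB (fun r => edgeOK (Nat.add (Nat.mul 513 21) r)) 513 = true := by decide +kernel
theorem edgeR22 : allB (fun r => edgeOK (Nat.add (Nat.mul 513 22) r)) 513 = true := by decide +kernel
theorem edgeR23 : allB (fun r => edgeOK (Nat.add (Nat.mul 513 23) r)) 513 = true := by decide +kernel
theorem edgeR24 : allB (fun r => edgeOK (Nat.add (Nat.mul 513 24) r)) 513 = true := by decide +kernel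
theorem edgeR25 : allB (fun r => edgeOK (Nat.add (Nat.mul 513 25) r)) 513 = true := by decide +kernel
theorem edgeR26 : allB (fun r => edgeOK (Nat.add (Nat.mul 513 26) r)) 513 = true := by decide +kernel
theorem edgeR27 : allB (fun r => edgeOK (Nat.add (Nat.mul 513 27) r)) 513 = true := by decide +kernel
theorem edgeR28 : allB (fun r => edgeOK (Nat.add (Nat.mul 513 28) r)) 513 = true := by decide +kernel
theorem edgeR29 : allB (fun r => edgeOK (Nat.add (Nat.mul 513 29) r)) 513 = true := by decide +kernel
theorem edgeR30 : allB (fun r => edgeOK (Nat.add (Nat.mul 513 30) r)) 513 = true := by decide +kernel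
theorem edgeR31 : allB (fun r => edgeOK (Nat.add (Nat.mul 513 31) r)) 513 = true := by decide +kernel
theorem edgeR32 : allB (fun r => edgeOK (Nat.add (Nat.mul 513 32) r)) 513 = true := by decide +kernel
theorem edgeR33 : allB (fun r => edgeOK (Nat.add (Nat.mul 513 33) r)) 513 = true := by decide +kernel
theorem edgeR34 : allB (fun r => edgeOK (Nat.add (Nat.mul 513 34) r)) 513 = true := by decide +kernel
theorem edgeR35 : allB (fun r => edgeOK (Nat.add (Nat.mul 513 35) r)) 513 = true := by decide +kernel
theorem edgeR36 : allB (fun r => edgeOK (Nat.add (Nat.mul 513 36) r)) 513 = true := by decide +kernel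
theorem edgeR37 : allB (fun r => edgeOK (Nat.add (Nat.mul 513 37) r)) 513 = true := by decide +kernel
theorem edgeR38 : allB (fun r => edgeOK (Nat.add (Nat.mul 513 38) r)) 513 = true := by decide +kernel
theorem edgeR39 : allB (fun r => edgeOK (Nat.add (Nat.mul 513 39) r)) 513 = true := by decide +kernel
theorem edgeR40 : allB (fun r => edgeOK (Nat.add (Nat.mul 513 40) r)) 513 = true := by decide +kernel
theorem edgeR41 : allB (fun r => edgeOK (Nat.add (Nat.mul 513 41) r)) 513 = true := by decide +kernel
theorem edgeR42 : allB (fun r => edgeOK (Nat.add (Nat.mul 513 42) r)) 513 = true := by decide +kernel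
theorem edgeR43 : allB (fun r => edgeOK (Nat.add (Nat.mul 513 43) r)) 513 = true := by decide +kernel
theorem edgeR44 : allB (fun r => edgeOK (Nat.add (Nat.mul 513 44) r)) 513 = true := by decide +kernel
theorem edgeR45 : allB (fun r => edgeOK (Nat.add (Nat.mul 513 45) r)) 513 = true := by decide +kernel
theorem edgeR46 : allB (fun r => edgeOK (Nat.add (Nat.mul 513 46) r)) 513 = true := by decide +kernel
theorem edgeR47 : allB (fun r => edgeOK (Nat.add (Nat.mul 513 47) r)) 513 = true := by decide +kernel

theorem edgeR_all : ∀ g < 48, allB (fun r => edgeOK (Nat.add (Nat.mul 513 g) r)) 513 = true := by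
  intro g hg
  interval_cases g
  · exact edgeR0
  · exact edgeR1
  · exact edgeR2
  · exact edgeR3
  · exact edgeR4
  · exact edgeR5
  · exact edgeR6
  · exact edgeR7
  · exact edgeR8
  · exact edgeR9
  · exact edgeR10
  · exact edgeR11
  · exact edgeR12
  · exact edgeR13
  · exact edgeR14
  · exact edgeR15
  · exact edgeR16
  · exact edgeR17
  · exact edgeR18
  · exact edgeR19
  · exact edgeR20
  · exact edgeR21
  · exact edgeR22
  · exact edgeR23
  · exact edgeR24
  · exact edgeR25
  · exact edgeR26
  · exact edgeR27
  · exact edgeR28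
  · exact edgeR29
  · exact edgeR30
  · exact edgeR31
  · exact edgeR32
  · exact edgeR33
  · exact edgeR34
  · exact edgeR35
  · exact edgeR36
  · exact edgeR37
  · exact edgeR38
  · exact edgeR39
  · exact edgeR40
  · exact edgeR41
  · exact edgeR42
  · exact edgeR43
  · exact edgeR44
  · exact edgeR45
  · exact edgeR46
  · exact edgeR47

end Cfsg.Agent.Lib.Compute.J3.MultDefs
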