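import Cfsg.Agent.Lib.Compute.J3.MultDefs

/-!
# The kernel checks on the subgroup `L₂(16)` of `J₃`
-/

set_option autoImplicit false

namespace Cfsg.Agent.Lib.Compute.J3.MultDefs

open Cfsg.Agent.Lib.Compute.PermCert Cfsg.Agent.Lib.Compute.PeelCert
open Cfsg.Agent.Lib.Compute.J3.Data Cfsg.Agent.Lib.Compute.J3.F4Mat Cfsg.Agent.Lib.Compute.J3.MultData
open Cfsg.Agent.Lib.Compute.J3.Check Cfsg.Agent.Lib.Compute.J3.InvCheck

theorem rowAR0 : allB (fun r => rowTOK L0big 4080 12 4095 x1C L0rA (Nat.add (Nat.mul 1020 0) r)) 1020 = true := by decide +kernel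
theorem rowAR1 : allB (fun r => rowTOK L0big 4080 12 4095 x1C L0rA (Nat.add (Nat.mul 1020 1) r)) 1020 = true := by decide +kernel
theorem rowAR2 : allB (fun r => rowTOK L0big 4080 12 4095 x1C L0rA (Nat.add (Nat.mul 1020 2) r)) 1020 = true := by decide +kernel
theorem rowAR3 : allB (fun r => rowTOK L0big 4080 12 4095 x1C L0rA (Nat.add (Nat.mul 1020 3) r)) 1020 = true := by decide +kernel

theorem rowAR_all : ∀ g < 4, allB (fun r => rowTOK L0big 4080 12 4095 x1C L0rA (Nat.add (Nat.mul 1020 g) r)) 1020 = true := by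
  intro g hg
  interval_cases g
  · exact rowAR0
  · exact rowAR1
  · exact rowAR2
  · exact rowAR3
theorem rowBR0 : allB (fun r => rowTOK L0big 4080 12 4095 x2C L0rB (Nat.add (Nat.mul 1020 0) r)) 1020 = true := by decide +kernel
theorem rowBR1 : allB (fun r => rowTOK L0big 4080 12 4095 x2C L0rB (Nat.add (Nat.mul 1020 1) r)) 1020 = true := by decide +kernel
theorem rowBR2 : allB (fun r => rowTOK L0big 4080 12 4095 x2C L0rB (Nat.add (Nat.mul 1020 2) r)) 1020 = true := by decide +kernel
theorem rowBR3 : allB (fun r => rowTOK L0big 4080 12 4095 x2C L0rB (Nat.add (Nat.mul 1020 3) r)) 1020 = true := by decide +kernel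

theorem rowBR_all : ∀ g < 4, allB (fun r => rowTOK L0big 4080 12 4095 x2C L0rB (Nat.add (Nat.mul 1020 g) r)) 1020 = true := by
  intro g hg
  interval_cases g
  · exact rowBR0
  · exact rowBR1
  · exact rowBR2
  · exact rowBR3

theorem treeL_ok : allB (treeTOK L0big 4080 12 4095 18 262143 13 4095 12 1 L0tr rowsL) 4080 = true := by decide +kernel
theorem sortL_ok : allB (sortOK L0big) 4079 = true := by decide +kernel
theorem rootL_ok : tb L0big L0root = oneC ∧ L0root < 4080 := by decide +kernel
theorem noZ_ok : allB (fun j => !isZ (tb L0big j) || Nat.beq (tb L0big j) oneC) 4080 = true := by decide +kernel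

theorem tabL_ok : allB tabLOK 240 = true := by decide +kernel
theorem repL_zero : repL 0 = oneC := by decide +kernel
theorem varL_ok : allB varLOK 480 = true := by decide +kernel
theorem relsL_ok : relsOK tL 2 240 rkL formL WL offL 2 BL 17 (6 + 1) 8 relLL = true := by decide +kernel
theorem ordL_ok : cmbOK (relVecs BL (6 + 1) relLL) ordLP ordLM (Cfsg.Agent.Lib.Compute.SchurLin.unitV 6 17) = true := by decide +kernel
theorem tgtL_ok : tgtLL.all (tgtOK (relVecs BL (6 + 1) relLL) 6) = true := by decide +kernel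
theorem covL : ∀ j < 6 + 1, j = 6 ∨ j ∈ tgtLL.map Prod.fst := by decide +kernel
theorem lenWL : ∀ w ∈ WL, w.length ≤ 34 := by decide +kernel
theorem hoffL : bdB BL 256 (6 + 1) offL = true := by decide +kernel
theorem hEL : EL = BL ^ (6 + 1) := by decide +kernel
theorem edgeL_ok : allB edgeLOK 480 = true := by decide +kernel
theorem relL_ok : WL.all relLOK = true := by decide +kernel
theorem x1_inv : mm x1C x1iC = oneC := by decide +kernel
theorem x2_inv : mm x2C x2iC = oneC := by decide +kernel
theorem c17_pow : pw c17 17 = oneC := by decide +kernel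
theorem c17_ne : c17 ≠ oneC := by decide +kernel
theorem c17_lt : c17 < 2 ^ 162 := by decide +kernel
theorem exL0 : WL.getD 0 [] = (WL.getD 0 []).dropLast ++ [2 * 0 + 1] := by decide +kernel
theorem exL1 : WL.getD 1 [] = (WL.getD 1 []).dropLast ++ [2 * 1 + 1] := by decide +kernel
theorem exvL : ∀ k < 2, ∀ j < 2, Cfsg.Agent.Lib.Compute.SchurLin.expV ((WL.getD k []).dropLast) j = 0 := by decide +kernel
theorem wcL0 : wc lcL (WL.getD 0 []).dropLast = x1C := by decide +kernel
theorem wcL1 : wc lcL (WL.getD 1 []).dropLast = x2C := by decide +kernel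

end Cfsg.Agent.Lib.Compute.J3.MultDefs
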