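import Cfsg.Agent.Lib.Compute.J3.MultDefs

/-!
# The kernel checks of the linear forms on the table of `J₃`
-/

set_option autoImplicit false

namespace Cfsg.Agent.Lib.Compute.J3.MultDefs

open Cfsg.Agent.Lib.Compute.PermCert Cfsg.Agent.Lib.Compute.PeelCert
open Cfsg.Agent.Lib.Compute.J3.Data Cfsg.Agent.Lib.Compute.J3.F4Mat Cfsg.Agent.Lib.Compute.J3.MultData
open Cfsg.Agent.Lib.Compute.J3.Check Cfsg.Agent.Lib.Compute.J3.InvCheck

theorem varR0 : allB (fun r => varOK (Nat.add (Nat.mul 513 0) r)) 513 = true := by decide +kernel
theorem varR1 : allB (fun r => varOK (Nat.add (Nat.mul 513 1) r)) 513 = true := by decide +kernel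
theorem varR2 : allB (fun r => varOK (Nat.add (Nat.mul 513 2) r)) 513 = true := by decide +kernel
theorem varR3 : allB (fun r => varOK (Nat.add (Nat.mul 513 3) r)) 513 = true := by decide +kernel
theorem varR4 : allB (fun r => varOK (Nat.add (Nat.mul 513 4) r)) 513 = true := by decide +kernel
theorem varR5 : allB (fun r => varOK (Nat.add (Nat.mul 513 5) r)) 513 = true := by decide +kernel
theorem varR6 : allB (fun r => varOK (Nat.add (Nat.mul 513 6) r)) 513 = true := by decide +kernel
theorem varR7 : allB (fun r => varOK (Nat.add (Nat.mul 513 7) r)) 513 = true := by decide +kernel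
theorem varR8 : allB (fun r => varOK (Nat.add (Nat.mul 513 8) r)) 513 = true := by decide +kernel
theorem varR9 : allB (fun r => varOK (Nat.add (Nat.mul 513 9) r)) 513 = true := by decide +kernel
theorem varR10 : allB (fun r => varOK (Nat.add (Nat.mul 513 10) r)) 513 = true := by decide +kernel
theorem varR11 : allB (fun r => varOK (Nat.add (Nat.mul 513 11) r)) 513 = true := by decide +kernel
theorem varR12 : allB (fun r => varOK (Nat.add (Nat.mul 513 12) r)) 513 = true := by decide +kernel
theorem varR13 : allB (fun r => varOK (Nat.add (Nat.mul 513 13) r)) 513 = true := by decide +kernel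
theorem varR14 : allB (fun r => varOK (Nat.add (Nat.mul 513 14) r)) 513 = true := by decide +kernel
theorem varR15 : allB (fun r => varOK (Nat.add (Nat.mul 513 15) r)) 513 = true := by decide +kernel
theorem varR16 : allB (fun r => varOK (Nat.add (Nat.mul 513 16) r)) 513 = true := by decide +kernel
theorem varR17 : allB (fun r => varOK (Nat.add (Nat.mul 513 17) r)) 513 = true := by decide +kernel
theorem varR18 : allB (fun r => varOK (Nat.add (Nat.mul 513 18) r)) 513 = true := by decide +kernel
theorem varR19 : allB (fun r => varOK (Nat.add (Nat.mul 513 19) r)) 513 = true := by decide +kernel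
theorem varR20 : allB (fun r => varOK (Nat.add (Nat.mul 513 20) r)) 513 = true := by decide +kernel
theorem varR21 : allB (fun r => varOK (Nat.add (Nat.mul 513 21) r)) 513 = true := by decide +kernel
theorem varR22 : allB (fun r => varOK (Nat.add (Nat.mul 513 22) r)) 513 = true := by decide +kernel
theorem varR23 : allB (fun r => varOK (Nat.add (Nat.mul 513 23) r)) 513 = true := by decide +kernel
theorem varR24 : allB (fun r => varOK (Nat.add (Nat.mul 513 24) r)) 513 = true := by decide +kernel
theorem varR25 : allB (fun r => varOK (Nat.add (Nat.mul 513 25) r)) 513 = true := by decide +kernel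
theorem varR26 : allB (fun r => varOK (Nat.add (Nat.mul 513 26) r)) 513 = true := by decide +kernel
theorem varR27 : allB (fun r => varOK (Nat.add (Nat.mul 513 27) r)) 513 = true := by decide +kernel
theorem varR28 : allB (fun r => varOK (Nat.add (Nat.mul 513 28) r)) 513 = true := by decide +kernel
theorem varR29 : allB (fun r => varOK (Nat.add (Nat.mul 513 29) r)) 513 = true := by decide +kernel
theorem varR30 : allB (fun r => varOK (Nat.add (Nat.mul 513 30) r)) 513 = true := by decide +kernel
theorem varR31 : allB (fun r => varOK (Nat.add (Nat.mul 513 31) r)) 513 = true := by decide +kernel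
theorem varR32 : allB (fun r => varOK (Nat.add (Nat.mul 513 32) r)) 513 = true := by decide +kernel
theorem varR33 : allB (fun r => varOK (Nat.add (Nat.mul 513 33) r)) 513 = true := by decide +kernel
theorem varR34 : allB (fun r => varOK (Nat.add (Nat.mul 513 34) r)) 513 = true := by decide +kernel
theorem varR35 : allB (fun r => varOK (Nat.add (Nat.mul 513 35) r)) 513 = true := by decide +kernel
theorem varR36 : allB (fun r => varOK (Nat.add (Nat.mul 513 36) r)) 513 = true := by decide +kernel
theorem varR37 : allB (fun r => varOK (Nat.add (Nat.mul 513 37) r)) 513 = true := by decide +kernel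
theorem varR38 : allB (fun r => varOK (Nat.add (Nat.mul 513 38) r)) 513 = true := by decide +kernel
theorem varR39 : allB (fun r => varOK (Nat.add (Nat.mul 513 39) r)) 513 = true := by decide +kernel
theorem varR40 : allB (fun r => varOK (Nat.add (Nat.mul 513 40) r)) 513 = true := by decide +kernel
theorem varR41 : allB (fun r => varOK (Nat.add (Nat.mul 513 41) r)) 513 = true := by decide +kernel
theorem varR42 : allB (fun r => varOK (Nat.add (Nat.mul 513 42) r)) 513 = true := by decide +kernel
theorem varR43 : allB (fun r => varOK (Nat.add (Nat.mul 513 43) r)) 513 = true := by decide +kernel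
theorem varR44 : allB (fun r => varOK (Nat.add (Nat.mul 513 44) r)) 513 = true := by decide +kernel
theorem varR45 : allB (fun r => varOK (Nat.add (Nat.mul 513 45) r)) 513 = true := by decide +kernel
theorem varR46 : allB (fun r => varOK (Nat.add (Nat.mul 513 46) r)) 513 = true := by decide +kernel
theorem varR47 : allB (fun r => varOK (Nat.add (Nat.mul 513 47) r)) 513 = true := by decide +kernel

theorem varR_all : ∀ g < 48, allB (fun r => varOK (Nat.add (Nat.mul 513 g) r)) 513 = true := by
  intro g hg
  interval_cases g
  · exact varR0
  · exact varR1
  · exact varR2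
  · exact varR3
  · exact varR4
  · exact varR5
  · exact varR6
  · exact varR7
  · exact varR8
  · exact varR9
  · exact varR10
  · exact varR11
  · exact varR12
  · exact varR13
  · exact varR14
  · exact varR15
  · exact varR16
  · exact varR17
  · exact varR18
  · exact varR19
  · exact varR20
  · exact varR21
  · exact varR22
  · exact varR23
  · exact varR24
  · exact varR25
  · exact varR26
  · exact varR27
  · exact varR28
  · exact varR29
  · exact varR30
  · exact varR31
  · exact varR32
  · exact varR33
  · exact varR34
  · exact varR35
  · exact varR36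
  · exact varR37
  · exact varR38
  · exact varR39
  · exact varR40
  · exact varR41
  · exact varR42
  · exact varR43
  · exact varR44
  · exact varR45
  · exact varR46
  · exact varR47

end Cfsg.Agent.Lib.Compute.J3.MultDefs
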