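import Cfsg.Agent.Lib.Compute.OutCert

/-!
# An abstract criterion for `|Out Q| = 2`
-/

set_option autoImplicit false

namespace Cfsg.Agent.Lib.Compute.J3.OutAbs

open Cfsg Cfsg.Agent.Lib.Compute.OutCert

variable {Q : Type*} [Group Q]

theorem hexp19 (k : ℕ) (hk : ¬ 19 ∣ k) : ∃ j, (k * 9 ^ j) % 19 = 1 ∨ (k * 9 ^ j) % 19 = 19 - 1 := by
  have h : ∀ m : Fin 19, (m : ℕ) ≠ 0 → ∃ j : Fin 9, ((m : ℕ) * 9 ^ (j : ℕ)) % 19 = 1 ∨ ((m : ℕ) * 9 ^ (j : ℕ)) % 19 = 18 := by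
    decide
  have hm : k % 19 ≠ 0 := fun h0 => hk (Nat.dvd_of_mod_eq_zero h0)
  obtain ⟨j, hj⟩ := h ⟨k % 19, Nat.mod_lt _ (by norm_num)⟩ hm
  refine ⟨j, ?_⟩
  have e : (k * 9 ^ (j : ℕ)) % 19 = ((k % 19) * 9 ^ (j : ℕ)) % 19 := by
    rw [Nat.mod_mul_mod]
  rw [e]
  exact hj

theorem pHom_top (φ : MulAut Q) : PHom (⊤ : Subgroup Q) φ where
  mul := fun x _ y _ => map_mul φ x y
  mem := fun _ _ => trivial
  inj := fun x _ h => (map_eq_one_iff φ φ.injective).1 h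

theorem inn_conj (g : Q) : MulAut.conj g ∈ Inn Q := ⟨g, rfl⟩

/-- The criterion. -/
theorem out_two_of [Finite Q] {π y ρ h' : Q} (σ : MulAut Q) (hσ : σ ∉ Inn Q) (hp2 : ¬ 19 ^ 2 ∣ Nat.card Q)
    (hπ19 : π ^ 19 = 1) (hπ1 : π ≠ 1) (hρπ : ρ * π = π ^ 9 * ρ) (hgen : Subgroup.closure {π, y} = ⊤)
    (hy2 : y ^ 2 = 1) (hy1 : y ≠ 1) (rel1 : (π * y) ^ 3 = 1) (rel2 : (π ^ 6 * y) ^ 8 = 1)
    (hcand : ∀ y' : Q, y' ^ 2 = 1 → y' ≠ 1 → (π * y') ^ 3 = 1 → (π ^ 6 * y') ^ 8 = 1 → ∃ k : ℕ, y' * π ^ k = π ^ k * y)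
    (htw : h' * σ π = π ^ 18 * h') : Nat.card (Out Q) = 2 := by
  have : Fact (Nat.Prime 19) := ⟨by norm_num⟩
  have key : ∀ γ : MulAut Q, γ π = π → γ ∈ Inn Q := by
    intro γ hγ
    have a1 : (γ y) ^ 2 = 1 := by rw [← map_pow, hy2, map_one]
    have a2 : γ y ≠ 1 := fun h => hy1 ((map_eq_one_iff γ γ.injective).1 h)
    have a3 : (π * γ y) ^ 3 = 1 := by
      have := congrArg γ rel1
      rwa [map_pow, map_mul, hγ, map_one] at this
    have a4 : (π ^ 6 * γ y) ^ 8 = 1 := by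
      have := congrArg γ rel2
      rwa [map_pow, map_mul, map_pow, hγ, map_one] at this
    obtain ⟨k, hk⟩ := hcand _ a1 a2 a3 a4
    let δ : MulAut Q := (MulAut.conj (π ^ k))⁻¹ * γ
    have hδ1 : δ π = π := by
      show (MulAut.conj (π ^ k)).symm (γ π) = π
      rw [hγ, MulEquiv.symm_apply_eq, MulAut.conj_apply]
      rw [eq_mul_inv_iff_mul_eq, ← pow_succ, ← pow_succ']
    have hδ2 : δ y = y := by
      show (MulAut.conj (π ^ k)).symm (γ y) = y
      rw [MulEquiv.symm_apply_eq, MulAut.conj_apply, eq_mul_inv_iff_mul_eq, hk]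
    have hδ : δ = 1 := by
      ext x
      have hx : x ∈ Subgroup.closure {π, y} := by rw [hgen]; trivial
      induction hx using Subgroup.closure_induction with
      | mem x hx =>
        rcases hx with rfl | hx
        · exact hδ1
        · rw [Set.mem_singleton_iff] at hx
          rw [hx]
          exact hδ2
      | one => simp
      | mul a b _ _ iha ihb => simp [iha, ihb]
      | inv a _ ih => simp [ih]
    have e : γ = MulAut.conj (π ^ k) := by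
      have h1 : (MulAut.conj (π ^ k))⁻¹ * γ = 1 := hδ
      rw [inv_mul_eq_one] at h1
      exact h1.symm
    rw [e]
    exact inn_conj _
  refine card_out_eq_two σ hσ fun φ => ?_
  have hp2' : ¬ 19 ^ 2 ∣ Nat.card (⊤ : Subgroup Q) := by
    rwa [Subgroup.card_top]
  obtain ⟨h, -, e, he, hconj⟩ := step_sylow (H := ⊤) (F := φ) (π := π) (ρ := ρ) (p := 19) (r := 9) (pHom_top φ) trivial trivial
    hp2' hπ19 hπ1 hρπ hexp19
  rcases he with rfl | rfl
  · left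
    have h1 : (MulAut.conj h * φ) π = π := by
      show h * φ π * h⁻¹ = π
      rw [hconj, pow_one]
    have h2 := key _ h1
    have e2 : φ = (MulAut.conj h)⁻¹ * (MulAut.conj h * φ) := by group
    rw [e2]
    exact (Inn Q).mul_mem ((Inn Q).inv_mem (inn_conj h)) h2
  · right
    have hconj' : h * φ π * h⁻¹ = π ^ 18 := hconj
    have h1 : (MulAut.conj h' * σ * (MulAut.conj h * φ)) π = π := by
      show h' * σ (h * φ π * h⁻¹) * h'⁻¹ = π
      rw [hconj', map_pow]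
      have e1 : h' * σ π ^ 18 * h'⁻¹ = (h' * σ π * h'⁻¹) ^ 18 := by
        rw [conj_pow]
      rw [e1, mul_inv_eq_of_eq_mul htw, ← pow_mul]
      have e2 : π ^ (18 * 18) = (π ^ 19) ^ 17 * π := by
        rw [← pow_mul, ← pow_succ]
      rw [e2, hπ19, one_pow, one_mul]
    have h2 := key _ h1
    have e3 : σ * φ = (σ * (MulAut.conj h)⁻¹ * σ⁻¹) * ((MulAut.conj h')⁻¹ * (MulAut.conj h' * σ * (MulAut.conj h * φ))) := by
      group
    rw [e3]
    refine (Inn Q).mul_mem ?_ ((Inn Q).mul_mem ((Inn Q).inv_mem (inn_conj h')) h2)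
    exact (innNormal Q).conj_mem _ ((Inn Q).inv_mem (inn_conj h)) σ

end Cfsg.Agent.Lib.Compute.J3.OutAbs
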