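import Cfsg.Agent.Lib.Compute.J3.Inst
import Cfsg.Prelude.Def_Classical
import Cfsg.Prelude.Def_Sporadic

/-!
# The triple cover of `J₃` inside `SU₉(2)`
-/

set_option autoImplicit false

namespace Cfsg.Agent.Lib.Compute.J3.SUInst

open scoped Matrix
open Cfsg.Agent.Lib.Compute.J3.Data Cfsg.Agent.Lib.Compute.J3.F4Mat
open Cfsg.Agent.Lib.Compute.J3.Check Cfsg.Agent.Lib.Compute.J3.Main Cfsg.Agent.Lib.Compute.J3.Inst

/-- The square of a digit. -/
def sqD (d : ℕ) : ℕ := Nat.xor d (Nat.shiftRight d 1)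

theorem conj_A : ∀ i t : Fin 9, digit cAi t i = sqD (digit cA i t) := by decide +kernel
theorem conj_B : ∀ i t : Fin 9, digit cBi t i = sqD (digit cB i t) := by decide +kernel
theorem pw_cB : pw cB 19 = oneC := by decide +kernel
theorem digit_lt (c i t : ℕ) : digit c i t < 4 := by
  have h : Nat.land (Nat.shiftRight c (18 * i + 2 * t)) 3 ≤ 3 := Nat.and_le_right
  exact Nat.lt_succ_of_le h

section Field

variable {F : Type*} [Field F] [CharP F 2] {ω : F} (hω' : ω * ω = ω + 1)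

include hω' in
theorem val_sqD {d : ℕ} (hd : d < 4) : valD ω (sqD d) = (valD ω d) ^ 2 := by
  have e0 : sqD 0 = 0 := rfl
  have e1 : sqD 1 = 1 := rfl
  have e2 : sqD 2 = 3 := rfl
  have e3 : sqD 3 = 2 := rfl
  interval_cases d
  · rw [e0]
    simp
  · rw [e1]
    simp
  · rw [e2, valD_three hω', valD_two]
  · rw [e3, valD_three hω', valD_two, ← pow_mul]
    show ω = ω ^ 4
    have : ω ^ 4 = (ω * ω) * (ω * ω) := by ring
    rw [this, hω']
    have h2 : (ω + 1) * (ω + 1) = ω * ω + (ω + ω) + 1 := by ring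
    rw [h2, CharTwo.add_self_eq_zero, add_zero, hω', add_assoc, CharTwo.add_self_eq_zero, add_zero]

theorem dec_conj {c ci : ℕ} (h : ∀ i t : Fin 9, digit ci t i = sqD (digit c i t)) (hω' : ω * ω = ω + 1) (k i : Fin 9) :
    dec ω ci k i = (dec ω c i k) ^ 2 := by
  rw [dec_digit, dec_digit, h i k, val_sqD hω' (digit_lt _ _ _)]

/-- The form is preserved. -/
theorem preserve {M M' : Matrix (Fin 9) (Fin 9) F} (h : ∀ k i, M' k i = (M i k) ^ 2) (h1 : M' * M = 1)
    (u v : Fin 9 → F) : Cfsg.hermForm 9 F 2 (M *ᵥ u) (M *ᵥ v) = Cfsg.hermForm 9 F 2 u v := by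
  let w : Fin 9 → F := fun k => (v k) ^ 2
  have e : ∀ i, ((M *ᵥ v) i) ^ 2 = (M'ᵀ *ᵥ w) i := by
    intro i
    simp only [Matrix.mulVec, dotProduct]
    rw [sum_pow_char 2]
    apply Finset.sum_congr rfl
    intro k _
    rw [mul_pow, Matrix.transpose_apply, h]
  have e2 : ∀ x : Fin 9 → F, (M *ᵥ u) ⬝ᵥ x = u ⬝ᵥ (Mᵀ *ᵥ x) := by
    intro x
    rw [dotProduct_comm, Matrix.dotProduct_mulVec, Matrix.mulVec_transpose, dotProduct_comm]
  have e3 : Mᵀ *ᵥ (M'ᵀ *ᵥ w) = w := by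
    rw [Matrix.mulVec_mulVec, ← Matrix.transpose_mul, h1, Matrix.transpose_one, Matrix.one_mulVec]
  show ∑ i, (M *ᵥ u) i * ((M *ᵥ v) i) ^ 2 = ∑ i, u i * (v i) ^ 2
  calc ∑ i, (M *ᵥ u) i * ((M *ᵥ v) i) ^ 2 = (M *ᵥ u) ⬝ᵥ (M'ᵀ *ᵥ w) := by
        apply Finset.sum_congr rfl
        intro i _
        rw [e]
    _ = u ⬝ᵥ w := by rw [e2, e3]
    _ = ∑ i, u i * (v i) ^ 2 := rfl

end Field

section Setup

variable {F : Type*} [Field F] [Fintype F] (hF : Fintype.card F = 4) [CharP F 2] {ω : F} (hω' : ω * ω = ω + 1)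
  (hω0 : ω ≠ 0) (hω1 : ω ≠ 1)

/-- The embedding of `SU` to matrices. -/
def vSU : Cfsg.SU 9 F 2 →* Matrix (Fin 9) (Fin 9) F := (Cfsg.slToMat 9 F).comp (Cfsg.SU 9 F 2).subtype

theorem vSU_inj : Function.Injective (vSU (F := F)) := by
  intro a b h
  apply Subtype.ext
  apply Subtype.ext
  exact h

include hF hω' in
theorem det_one {c : ℕ} (h : pw c 19 = oneC) : (dec ω c).det = 1 := by
  have h1 : dec ω c ^ 19 = 1 := by
    have key : ∀ n, dec ω (pw c n) = dec ω c ^ n := by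
      intro n
      induction n with
      | zero =>
        rw [pow_zero]
        exact dec_one
      | succ n ih => rw [pw, dec_mm hω', ih, pow_succ']
    rw [← key, h, dec_one]
  have h2 : (dec ω c).det ^ 19 = 1 := by
    rw [← Matrix.det_pow, h1, Matrix.det_one]
  have h3 : (dec ω c).det ≠ 0 := by
    intro h0
    rw [h0] at h2
    simp at h2
  have h4 : (dec ω c).det ^ 3 = 1 := by
    have := FiniteField.pow_card_sub_one_eq_one _ h3
    rw [hF] at this
    exact this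
  have : (dec ω c).det ^ 19 = ((dec ω c).det ^ 3) ^ 6 * (dec ω c).det := by ring
  rw [this, h4, one_pow, one_mul] at h2
  exact h2

include hF hω' in
/-- A unitary matrix of determinant one. -/
theorem exists_SU {c ci : ℕ} (hp : pw c 19 = oneC) (hc : ∀ i t : Fin 9, digit ci t i = sqD (digit c i t))
    (hi : mm ci c = oneC) : ∃ g : Cfsg.SU 9 F 2, vSU g = dec ω c := by
  refine ⟨⟨⟨dec ω c, det_one hF hω' hp⟩, ?_⟩, rfl⟩
  intro u v
  refine preserve (M' := dec ω ci) (fun k i => dec_conj hc hω' k i) ?_ u v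
  rw [← dec_mm hω', hi, dec_one]

/-- The setup for `SU`. -/
noncomputable def suSetup : Setup (Cfsg.SU 9 F 2) (Matrix (Fin 9) (Fin 9) F) where
  v := vSU
  hv := vSU_inj
  d := dec ω
  hmm := dec_mm hω'
  hone := dec_one
  hinj := dec_inj hω0 hω1
  gA := (exists_SU hF hω' (Nat.eq_of_beq_eq_true pw_ok.2.2.1) conj_A cA_inv.2).choose
  gB := (exists_SU hF hω' pw_cB conj_B cB_inv.2).choose
  hgA := (exists_SU hF hω' (Nat.eq_of_beq_eq_true pw_ok.2.2.1) conj_A cA_inv.2).choose_spec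
  hgB := (exists_SU hF hω' pw_cB conj_B cB_inv.2).choose_spec

end Setup

/-- The subgroup of `SU₉(2)`. -/
theorem exists_in_SU : ∃ (F : Type) (_ : Field F) (_ : Fintype F), Fintype.card F = 4 ∧
    ∃ H : Subgroup (Cfsg.SU 9 F 2), Nat.card (Subgroup.center H) = 3 ∧ Cfsg.IsJ3 (H ⧸ Subgroup.center H) := by
  refine ⟨F4, inferInstance, inferInstance, F4_card, ?_⟩
  obtain ⟨ω, hω⟩ := exists_omega F4 F4_card
  have : CharP F4 2 := charP_of_card F4_card
  have hm := main (suSetup F4_card (omega_sq hω) (omega_ne_zero hω) (omega_ne_one hω))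
  exact ⟨_, hm.1, hm.2.2.2.1, hm.2.2.1⟩

end Cfsg.Agent.Lib.Compute.J3.SUInst
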