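import Cfsg.Agent.Lib.Compute.J3.OutThm
import Cfsg.Agent.Lib.Compute.J3.SUInst

/-!
# The outer automorphism of `J₃` on matrices

The Frobenius map of the field, composed with the conjugation of the index set `F₉`, maps the generators to elements of
the group.
-/

set_option autoImplicit false
set_option linter.unusedSectionVars false

namespace Cfsg.Agent.Lib.Compute.J3.OutInst

open scoped MatrixGroups
open Cfsg Cfsg.Spor
open Cfsg.Agent.Lib.Compute.J3.Data Cfsg.Agent.Lib.Compute.J3.F4Mat Cfsg.Agent.Lib.Compute.J3.InvData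
open Cfsg.Agent.Lib.Compute.J3.Check Cfsg.Agent.Lib.Compute.J3.Main Cfsg.Agent.Lib.Compute.J3.Inst
open Cfsg.Agent.Lib.Compute.J3.InvCheck Cfsg.Agent.Lib.Compute.J3.SUInst Cfsg.Agent.Lib.Compute.J3.OutThm

/-- The conjugation of the index set. -/
def cj (z : F9) : F9 := (z.1, -z.2)

theorem cj_cj (z : F9) : cj (cj z) = z := by
  simp [cj]

/-- The conjugation as an equivalence. -/
def cjE : F9 ≃ F9 := ⟨cj, cj, cj_cj, cj_cj⟩

theorem chk_tA : ∀ w z : F9, digit tA (idx w) (idx z) = sqD (digit cA (idx (cj w)) (idx (cj z))) := by decide +kernel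
theorem chk_tB : ∀ w z : F9, digit tB (idx w) (idx z) = sqD (digit cB (idx (cj w)) (idx (cj z))) := by decide +kernel
theorem chk_zc : ∀ w z : F9, digit zc2 (idx w) (idx z) = sqD (digit zc (idx (cj w)) (idx (cj z))) := by decide +kernel

section Field

variable {F : Type*} [Field F] [CharP F 2]

/-- The twist on matrices. -/
def τm : Matrix F9 F9 F →* Matrix F9 F9 F where
  toFun M := Matrix.of fun w z => (M (cj w) (cj z)) ^ 2
  map_one' := by
    ext w z
    simp only [Matrix.of_apply, Matrix.one_apply]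
    by_cases h : w = z
    · subst h
      simp
    · have h2 : cj w ≠ cj z := fun e => h (by rw [← cj_cj w, e, cj_cj])
      simp [h, h2]
  map_mul' M N := by
    ext w z
    simp only [Matrix.of_apply, Matrix.mul_apply]
    rw [sum_pow_char 2, ← Equiv.sum_comp cjE]
    apply Finset.sum_congr rfl
    intro u _
    rw [mul_pow]
    rfl

/-- The twist on `GL`. -/
def τGL : GL F9 F →* GL F9 F := Units.map τm

theorem τGL_val (g : GL F9 F) (w z : F9) : (τGL g : Matrix F9 F9 F) w z = ((g : Matrix F9 F9 F) (cj w) (cj z)) ^ 2 := rfl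

theorem τGL_inv [Fintype F] (hF : Fintype.card F = 4) (g : GL F9 F) : τGL (τGL g) = g := by
  apply Units.ext
  ext w z
  rw [τGL_val, τGL_val, cj_cj, cj_cj, ← pow_mul]
  have := FiniteField.pow_card ((g : Matrix F9 F9 F) w z)
  rw [hF] at this
  exact this

variable {ω : F} (hω' : ω * ω = ω + 1)

theorem entry_of {M : Matrix F9 F9 F} {c : ℕ} (h : EE F M = dec ω c) (a b : F9) :
    M a b = valD ω (digit c (idx a) (idx b)) := by
  have h1 := congrFun (congrFun h (eF9 a)) (eF9 b)
  rw [dec_digit] at h1
  have e : EE F M (eF9 a) (eF9 b) = M a b := by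
    show M (eF9.symm (eF9 a)) (eF9.symm (eF9 b)) = _
    rw [Equiv.symm_apply_apply, Equiv.symm_apply_apply]
  rw [e] at h1
  exact h1

include hω' in
theorem twist_entry {g : GL F9 F} {c c' : ℕ}
    (hc : ∀ w z : F9, digit c' (idx w) (idx z) = sqD (digit c (idx (cj w)) (idx (cj z))))
    (h : vGL g = dec ω c) : vGL (τGL g) = dec ω c' := by
  refine (vGL_apply _).trans (EE_eq_dec fun w z => ?_)
  have h1 := entry_of (M := (g : Matrix F9 F9 F)) (c := c) (ω := ω) h (cj w) (cj z)
  refine (congrArg (· ^ 2) h1).trans ?_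
  rw [hc, val_sqD hω' (digit_lt _ _ _)]

end Field

section Final

variable {F : Type*} [Field F] [Fintype F] (hF : Fintype.card F = 4) {ω : F} (hω : ω ^ 2 + ω + 1 = 0)

include hF hω in
/-- The outer automorphism group of `J₃` has order two. -/
theorem out_J3 : Nat.card (Out (J3 F ω)) = 2 := by
  have : CharP F 2 := charP_of_card hF
  have hω' := omega_sq hω
  have h := out_two (S := theSetup hω' (omega_ne_zero hω) (omega_ne_one hω)) τGL (τGL_inv hF)
    (twist_entry hω' chk_tA (theSetup hω' (omega_ne_zero hω) (omega_ne_one hω)).hgA)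
    (twist_entry hω' chk_tB (theSetup hω' (omega_ne_zero hω) (omega_ne_one hω)).hgB)
    (fun z hz => twist_entry hω' chk_zc hz)
  rw [M_eq] at h
  exact h

end Final

end Cfsg.Agent.Lib.Compute.J3.OutInst
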