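import Cfsg.Agent.Lib.Compute.J3.InvCheck
import Cfsg.Agent.Lib.Compute.J3.Main
import Cfsg.Agent.Lib.Compute.J3.OutAbs

/-!
# `|Out(J₃)| = 2` from the chain and the list of involutions
-/

set_option autoImplicit false
set_option linter.unusedSectionVars false
set_option linter.unusedVariables false

namespace Cfsg.Agent.Lib.Compute.J3.OutThm

open scoped Pointwise
open Cfsg Cfsg.Agent.Lib.Compute.PermCert
open Cfsg.Agent.Lib.Compute.J3.Data Cfsg.Agent.Lib.Compute.J3.F4Mat Cfsg.Agent.Lib.Compute.J3.InvData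
open Cfsg.Agent.Lib.Compute.J3.Check Cfsg.Agent.Lib.Compute.J3.Chain Cfsg.Agent.Lib.Compute.J3.Main
open Cfsg.Agent.Lib.Compute.J3.InvCheck Cfsg.Agent.Lib.Compute.J3.OutAbs

/-! ### Bounds -/

theorem pkL_lt : ∀ (l : List ℕ), (∀ x ∈ l, x < 2 ^ 18) → pkL l < 2 ^ (18 * l.length) := by
  intro l
  induction l with
  | nil => intro _; simp [pkL]
  | cons x l ih =>
    intro hl
    have hx : x < 2 ^ 18 := hl x List.mem_cons_self
    cases l with
    | nil =>
      simpa [pkL] using hx
    | cons y l' =>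
      have h2 := ih fun z hz => hl z (List.mem_cons_of_mem _ hz)
      show pk x (pkL (y :: l')) < _
      show (x ||| (pkL (y :: l') <<< 18)) < _
      have e : 18 * (y :: l').length + 18 = 18 * (x :: y :: l').length := by
        simp only [List.length_cons]
        ring
      apply Nat.or_lt_two_pow
      · exact lt_of_lt_of_le hx (Nat.pow_le_pow_right (by norm_num) (by simp only [List.length_cons]; omega))
      · rw [Nat.shiftLeft_eq, ← e, pow_add]
        exact Nat.mul_lt_mul_of_pos_right h2 (by norm_num)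

theorem mm_lt (a b : ℕ) : mm a b < 2 ^ 162 := by
  have hmm : mm a b = mm3 a (grp (rw b 0)) (grp (rw b 18)) (grp (rw b 36)) (grp (rw b 54)) (grp (rw b 72))
      (grp (rw b 90)) (grp (rw b 108)) (grp (rw b 126)) (grp (rw b 144)) := by
    simp only [mm, frc_eq]
  rw [hmm, mm3_eq]
  have h := pkL_lt ((List.range 9).map fun i => rowP (grp (rw b 0)) (grp (rw b 18)) (grp (rw b 36))
      (grp (rw b 54)) (grp (rw b 72)) (grp (rw b 90)) (grp (rw b 108)) (grp (rw b 126)) (grp (rw b 144))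
      (rw a (18 * i))) (by
    intro x hx
    obtain ⟨k, _, rfl⟩ := List.mem_map.mp hx
    exact rowP_lt _ _ _ _ _ _ _ _ _ _)
  simpa using h

theorem pw_lt (c n : ℕ) (hn : n ≠ 0) : pw c n < 2 ^ 162 := by
  obtain ⟨m, rfl⟩ := Nat.exists_eq_succ_of_ne_zero hn
  exact mm_lt _ _

theorem invC_lt (i : ℕ) : invC i < 2 ^ 162 := by
  unfold invC
  rw [frc_eq, frc_eq]
  have h : Nat.land (Nat.shiftRight (invB (Nat.shiftRight i 8)) (Nat.mul 162 (Nat.land i 255))) M162 ≤ M162 :=
    Nat.and_le_right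
  have h2 : M162 < 2 ^ 162 := by decide +kernel
  exact lt_of_le_of_lt h h2

/-! ### Checks in a usable form -/

variable {Γ A : Type*} [Group Γ] [Monoid A] {S : Setup Γ A}

theorem line_spec {i : ℕ} (hi : i < NI) :
    rowG rowIA i < NI ∧ rowG rowIB i < NI ∧ mm cA (invC i) = mm (invC (rowG rowIA i)) cA ∧
      mm cB (invC i) = mm (invC (rowG rowIB i)) cB ∧ (rel1 (invC i) = true → rel2 (invC i) = true → inShort (invC i) = true) := by
  have h := lineOK_all hi
  simp only [lineOK, frc_eq, Bool.and_eq_true, Nat.blt_eq, Nat.beq_eq, Bool.or_eq_true, Bool.not_eq_true'] at h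
  obtain ⟨⟨⟨⟨h1, h2⟩, h3⟩, h4⟩, h5⟩ := h
  refine ⟨h1, h2, h3, h4, fun r1 r2 => ?_⟩
  rcases h5 with (h5 | h5) | h5
  · rw [r1] at h5
    exact absurd h5 (by simp)
  · rw [r2] at h5
    exact absurd h5 (by simp)
  · exact h5

variable [Finite Γ]

/-! ### The subgroup of order 128 -/

variable (S) in
theorem P2_facts : ∃ P : Subgroup Γ, P ≤ S.M ∧ Nat.card P = 128 ∧ ∀ g ∈ P, ∃ j, j < 128 ∧ S.v g = S.d (tb P2big j) := by
  obtain ⟨L, hLM, _, hT1, hT2⟩ := chain_exists S
  obtain ⟨x2a, hx2a, e2a⟩ := rep_of_sift hLM hT1 hT2 sift_p2a_ok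
  obtain ⟨x2b, hx2b, e2b⟩ := rep_of_sift hLM hT1 hT2 sift_p2b_ok
  obtain ⟨x2c, hx2c, e2c⟩ := rep_of_sift hLM hT1 hT2 sift_p2c_ok
  have hP2 : Nat.card (Subgroup.closure {x2a, x2b, x2c}) = 128 := by
    refine table_card (S := S) rfl (fun s => Nat.rec p2a (fun n _ => Nat.rec p2b (fun _ _ => p2c) n) s) r2xg
      P2big 128 8 255 14 16383 10 255 8 3 tr2x root2x ?_ ?_ ?_ tree2x_ok sort2x_ok root2x_ok.1 root2x_ok.2
    · intro s
      cases s with
      | zero => exact ⟨x2a, Subgroup.subset_closure (by simp), e2a⟩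
      | succ n =>
        cases n with
        | zero => exact ⟨x2b, Subgroup.subset_closure (by simp), e2b⟩
        | succ n => exact ⟨x2c, Subgroup.subset_closure (by simp), e2c⟩
    · rintro x (rfl | rfl | h)
      · exact ⟨0, e2a⟩
      · exact ⟨1, e2b⟩
      · rw [Set.mem_singleton_iff] at h
        rw [h]
        exact ⟨2, e2c⟩
    · intro s
      cases s with
      | zero => exact row2xa_ok
      | succ n =>
        cases n with
        | zero => exact row2xb_ok
        | succ n => exact row2xc_ok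
  have h2M : Subgroup.closure {x2a, x2b, x2c} ≤ S.M := by
    refine (Subgroup.closure_le _).mpr ?_
    rintro _ (rfl | rfl | h)
    · exact hx2a
    · exact hx2b
    · rw [Set.mem_singleton_iff] at h
      rw [h]
      exact hx2c
  refine ⟨_, h2M, hP2, fun g hg => ?_⟩
  obtain ⟨j, hj, h, hh, e⟩ := cover_of_table S.v (T := fun k => S.d (tb P2big k)) (n := 128) (j₀ := root2x) (H := ⊥)
    root2x_ok.2 (by
      show S.d (tb P2big root2x) = 1
      rw [root2x_ok.1, S.hone]) (by
      have hrow : ∀ (c r : ℕ), allB (rowTOK P2big 128 8 255 c r) 128 = true → ∀ j, j < 128 →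
          ∃ j', j' < 128 ∧ S.d c * S.d (tb P2big j) = S.d (tb P2big j') := by
        intro c r hr j hj
        have h := (allB_iff _ _).mp hr j hj
        simp only [rowTOK, frc_eq, Bool.and_eq_true, Nat.blt_eq, Nat.beq_eq] at h
        exact ⟨_, h.1, by rw [← S.hmm, h.2]⟩
      rintro x hx j hj
      have hx' : ∃ c r, S.v x = S.d c ∧ allB (rowTOK P2big 128 8 255 c r) 128 = true := by
        rcases hx with rfl | rfl | hx
        · exact ⟨_, _, e2a, row2xa_ok⟩
        · exact ⟨_, _, e2b, row2xb_ok⟩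
        · rw [Set.mem_singleton_iff] at hx
          rw [hx]
          exact ⟨_, _, e2c, row2xc_ok⟩
      obtain ⟨c, r, e, hr⟩ := hx'
      obtain ⟨j', hj', e'⟩ := hrow c r hr j hj
      exact ⟨j', hj', 1, Subgroup.one_mem _, by rw [e, e', map_one, mul_one]⟩) hg
  rw [Subgroup.mem_bot] at hh
  rw [hh, map_one, mul_one] at e
  exact ⟨j, hj, e⟩

/-- The order of the group is known. -/
theorem card_M : Nat.card S.M = 150698880 := (main S).2.1

theorem fact2_M : (Nat.card S.M).factorization 2 = 7 := by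
  rw [card_M]
  have : (150698880 : ℕ) = 2 ^ 7 * 1177335 := by norm_num
  rw [this, Nat.factorization_mul (by norm_num) (by norm_num), Nat.factorization_pow]
  have h2 : (Nat.factorization 1177335) 2 = 0 := Nat.factorization_eq_zero_of_not_dvd (by norm_num)
  simp [h2, Nat.Prime.factorization Nat.prime_two]

/-! ### The list of involutions -/

/-- The list of involutions is closed under conjugation. -/
theorem list_conj {g : Γ} (hg : g ∈ S.M) : ∀ x : Γ, (∃ i, i < NI ∧ S.v x = S.d (invC i)) →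
    ∃ i, i < NI ∧ S.v (g * x * g⁻¹) = S.d (invC i) := by
  have key : g * 1 ∈ {g : Γ | ∀ x : Γ, (∃ i, i < NI ∧ S.v x = S.d (invC i)) →
      ∃ i, i < NI ∧ S.v (g * x * g⁻¹) = S.d (invC i)} := by
    rw [mul_one]
    refine mem_of_left_closed (S := {S.gA, S.gB}) (X := {g : Γ | ∀ x : Γ, (∃ i, i < NI ∧ S.v x = S.d (invC i)) →
      ∃ i, i < NI ∧ S.v (g * x * g⁻¹) = S.d (invC i)}) ?_ ?_ hg
    · intro x hx
      simpa using hx
    · rintro s hs h hh x hx
      obtain ⟨i, hi, e⟩ := hh x hx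
      obtain ⟨h1, h2, h3, h4, _⟩ := line_spec hi
      have hcomp : s * h * x * (s * h)⁻¹ = s * (h * x * h⁻¹) * s⁻¹ := by group
      rw [hcomp]
      have hinv : S.v s * S.v s⁻¹ = 1 := by rw [← map_mul, mul_inv_cancel, map_one]
      rcases hs with rfl | hs
      · refine ⟨_, h1, ?_⟩
        have e5 : S.v S.gA * S.d (invC i) = S.d (invC (rowG rowIA i)) * S.v S.gA := by
          rw [S.hgA, ← S.hmm, h3, S.hmm]
        rw [map_mul, map_mul, e, e5, mul_assoc, hinv, mul_one]
      · rw [Set.mem_singleton_iff] at hs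
        subst hs
        refine ⟨_, h2, ?_⟩
        have e5 : S.v S.gB * S.d (invC i) = S.d (invC (rowG rowIB i)) * S.v S.gB := by
          rw [S.hgB, ← S.hmm, h4, S.hmm]
        rw [map_mul, map_mul, e, e5, mul_assoc, hinv, mul_one]
  rw [mul_one] at key
  exact key

/-- All the involutions are in the list. -/
theorem inv_list {w : Γ} (hw : w ∈ S.M) (h1 : w ^ 2 = 1) (h2 : w ≠ 1) : ∃ i, i < NI ∧ S.v w = S.d (invC i) := by
  obtain ⟨P, hPM, hPc, hPt⟩ := P2_facts S
  let w' : S.M := ⟨w, hw⟩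
  have hw2 : w' ^ 2 = 1 := Subtype.ext h1
  have hw1 : w' ≠ 1 := fun h => h2 (congrArg Subtype.val h)
  have hord : orderOf w' = 2 := orderOf_eq_prime hw2 hw1
  have hP : IsPGroup 2 (Subgroup.zpowers w') :=
    IsPGroup.of_card (n := 1) (by rw [Nat.card_zpowers, hord, pow_one])
  obtain ⟨Q, hQ⟩ := hP.exists_le_sylow
  have hcard' : Nat.card (P.subgroupOf S.M) = 2 ^ (Nat.card S.M).factorization 2 := by
    rw [Nat.card_congr (Subgroup.subgroupOfEquivOfLe hPM).toEquiv, hPc, fact2_M]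
    norm_num
  let S0 : Sylow 2 S.M := Sylow.ofCard (P.subgroupOf S.M) hcard'
  obtain ⟨g, hg⟩ := MulAction.exists_smul_eq S.M Q S0
  have hmem : g * w' * g⁻¹ ∈ P.subgroupOf S.M := by
    have h3 : w' ∈ (Q : Subgroup S.M) := hQ (Subgroup.mem_zpowers w')
    have h4 := Subgroup.smul_mem_pointwise_smul w' (MulAut.conj g) (Q : Subgroup S.M) h3
    have h5 : (S0 : Subgroup S.M) = MulAut.conj g • (Q : Subgroup S.M) := by
      rw [← hg]; rfl
    rw [← h5] at h4
    exact h4
  have hmem' : (g : Γ) * w * (g : Γ)⁻¹ ∈ P := Subgroup.mem_subgroupOf.mp hmem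
  obtain ⟨j, hj, ej⟩ := hPt _ hmem'
  -- the code is an involution
  have hc := p2_inv j hj
  have hlt : tb P2big j < 2 ^ 162 := tb_lt _ _
  have hne : tb P2big j ≠ oneC := by
    intro h0
    rw [h0, S.hone] at ej
    have : (g : Γ) * w * (g : Γ)⁻¹ = 1 := S.hv (by rw [ej, map_one])
    apply h2
    have h3 : (g : Γ) * w = (g : Γ) := by rwa [mul_inv_eq_one] at this
    exact mul_eq_left.mp h3
  have hsq : mm (tb P2big j) (tb P2big j) = oneC := by
    apply S.hinj _ _ (mm_lt _ _) lt_ok.2.2.2.2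
    rw [S.hmm, ← ej, S.hone, ← map_mul]
    rw [← pow_two, conj_pow, h1, mul_one, mul_inv_cancel, map_one]
  have hc2 : Nat.beq (invC (get 15 32767 p2idx j)) (tb P2big j) = true ∧ get 15 32767 p2idx j < NI := by
    rcases hc with h3 | h3 | h3
    · exact absurd (Nat.eq_of_beq_eq_true h3) hne
    · rw [hsq] at h3
      simp at h3
    · exact h3
  have h5 : ∃ i, i < NI ∧ S.v ((g : Γ) * w * (g : Γ)⁻¹) = S.d (invC i) :=
    ⟨_, hc2.2, by rw [ej, Nat.eq_of_beq_eq_true hc2.1]⟩
  have h6 := list_conj (S.M.inv_mem g.2) _ h5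
  have e7 : (g : Γ)⁻¹ * ((g : Γ) * w * (g : Γ)⁻¹) * (g : Γ)⁻¹⁻¹ = w := by group
  rwa [e7] at h6

/-! ### The center -/

theorem isZ_iff {c : ℕ} : isZ c = true ↔ c = oneC ∨ c = zc ∨ c = zc2 := by
  simp only [isZ, Bool.or_eq_true, Nat.beq_eq, or_assoc]

/-- The embedding on `M`. -/
def vM (S : Setup Γ A) : S.M →* A := S.v.comp S.M.subtype

theorem vM_apply (x : S.M) : vM S x = S.v x := rfl

theorem vM_inj : Function.Injective (vM S) := fun a b h => Subtype.ext (S.hv h)

theorem vM_mul {a b : S.M} {c c' : ℕ} (h : vM S a = S.d c) (h' : vM S b = S.d c') : vM S (a * b) = S.d (mm c c') := by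
  rw [map_mul, h, h', S.hmm]

theorem vM_pow {a : S.M} {c : ℕ} (h : vM S a = S.d c) (n : ℕ) : vM S (a ^ n) = S.d (pw c n) := by
  rw [map_pow, h, pw_dec]

variable (S) in
/-- The central element of order three. -/
theorem central_exists : ∃ z' : S.M, vM S z' = S.d zc ∧ z' ∈ Subgroup.center S.M ∧ orderOf z' = 3 := by
  obtain ⟨L, hLM, _, hT1, hT2⟩ := chain_exists S
  obtain ⟨z, hz, ez⟩ := rep_of_sift hLM hT1 hT2 sift_zc_ok
  have hcomm : ∀ g ∈ S.M, z * g = g * z := by
    have hA : z * S.gA = S.gA * z := by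
      apply S.hv
      rw [map_mul, map_mul, ez, S.hgA, ← S.hmm, ← S.hmm, Nat.eq_of_beq_eq_true zc_comm.1]
    have hB : z * S.gB = S.gB * z := by
      apply S.hv
      rw [map_mul, map_mul, ez, S.hgB, ← S.hmm, ← S.hmm, Nat.eq_of_beq_eq_true zc_comm.2]
    intro g hg
    have hg' : g ∈ Subgroup.centralizer {z} := by
      refine (Subgroup.closure_le (Subgroup.centralizer {z})).mpr ?_ hg
      rintro _ (rfl | h)
      · rw [SetLike.mem_coe, Subgroup.mem_centralizer_singleton_iff]
        exact hA.symm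
      · rw [Set.mem_singleton_iff] at h
        rw [h, SetLike.mem_coe, Subgroup.mem_centralizer_singleton_iff]
        exact hB.symm
    rw [Subgroup.mem_centralizer_singleton_iff] at hg'
    exact hg'.symm
  let z' : S.M := ⟨z, hz⟩
  have hcomm' : ∀ g : S.M, z' * g = g * z' := fun g => Subtype.ext (hcomm g g.2)
  refine ⟨z', ez, Subgroup.mem_center_iff.mpr fun g => (hcomm' g).symm, ?_⟩
  have f3 : Fact (Nat.Prime 3) := ⟨by norm_num⟩
  have h5 : pw zc 3 = oneC := Nat.eq_of_beq_eq_true pw_ok.2.2.2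
  have h6 : z ^ 3 = 1 := by
    apply S.hv
    rw [map_pow, ez, ← pw_dec, h5, S.hone, map_one]
  have h7 : z ≠ 1 := by
    rintro rfl
    apply ne_ok.2.2.2
    apply S.hinj _ _ lt_ok.2.2.2.1 lt_ok.2.2.2.2
    rw [← ez, map_one, S.hone]
  have h8 : orderOf z = 3 := orderOf_eq_prime h6 h7
  rw [← h8]
  exact Subgroup.orderOf_mk _ _

/-- The center in terms of codes. -/
theorem center_iff (x : S.M) {c : ℕ} (hc : vM S x = S.d c) (hlt : c < 2 ^ 162) :
    x ∈ Subgroup.center S.M ↔ isZ c = true := by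
  obtain ⟨z', ez, hzc, hord⟩ := central_exists S
  have hcard : Nat.card (Subgroup.center S.M) = 3 := (main S).1
  have hz : Subgroup.zpowers z' = Subgroup.center S.M := by
    apply Subgroup.eq_of_le_of_card_ge
    · exact (Subgroup.zpowers_le).mpr hzc
    · rw [hcard, Nat.card_zpowers, hord]
  have e1 : vM S (z' ^ 2) = S.d zc2 := by
    rw [pow_two]
    exact vM_mul ez ez
  have e0 : vM S 1 = S.d oneC := by rw [map_one, S.hone]
  rw [isZ_iff]
  constructor
  · intro hx
    rw [← hz] at hx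
    classical
    rw [mem_zpowers_iff_mem_range_orderOf, hord] at hx
    simp only [Finset.mem_image, Finset.mem_range] at hx
    obtain ⟨k, hk, rfl⟩ := hx
    interval_cases k
    · left
      rw [pow_zero] at hc
      exact S.hinj _ _ hlt lt_ok.2.2.2.2 (by rw [← hc, e0])
    · right; left
      rw [pow_one] at hc
      exact S.hinj _ _ hlt lt_ok.2.2.2.1 (by rw [← hc, ez])
    · right; right
      exact S.hinj _ _ hlt zc2_lt (by rw [← hc, e1])
  · rintro (rfl | rfl | rfl)
    · have : x = 1 := vM_inj (by rw [hc, e0])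
      rw [this]
      exact Subgroup.one_mem _
    · have : x = z' := vM_inj (by rw [hc, ez])
      rw [this]
      exact hzc
    · have : x = z' ^ 2 := vM_inj (by rw [hc, e1])
      rw [this]
      exact Subgroup.pow_mem _ hzc _

theorem center_cube {c : S.M} (hc : c ∈ Subgroup.center S.M) : c ^ 3 = 1 := by
  have hcard : Nat.card (Subgroup.center S.M) = 3 := (main S).1
  have h : (⟨c, hc⟩ : Subgroup.center S.M) ^ 3 = 1 := by
    rw [← hcard]
    exact pow_card_eq_one'
  exact congrArg Subtype.val h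

/-- Induction on `M`. -/
theorem M_ind (C : Subgroup S.M) (hA : (⟨S.gA, gA_mem⟩ : S.M) ∈ C) (hB : (⟨S.gB, gB_mem⟩ : S.M) ∈ C) (x : S.M) :
    x ∈ C := by
  have h : S.M ≤ C.map S.M.subtype := by
    refine (Subgroup.closure_le _).mpr ?_
    rintro _ (rfl | h)
    · exact ⟨_, hA, rfl⟩
    · rw [Set.mem_singleton_iff] at h
      rw [h]
      exact ⟨_, hB, rfl⟩
  obtain ⟨y, hy, e⟩ := h x.2
  have : y = x := Subtype.ext e
  rwa [← this]

theorem pw_cB' : pw cB 19 = oneC := by decide +kernel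
theorem zc2_ne : zc2 ≠ zc := by decide +kernel
theorem isZ_cA : isZ cA = false := by decide +kernel
theorem isZ_y0 : isZ y0 = false := by decide +kernel

/-! ### The theorem -/

/-- The quotient map. -/
abbrev qM (S : Setup Γ A) : S.M →* S.M ⧸ Subgroup.center S.M := QuotientGroup.mk' (Subgroup.center S.M)

theorem qM_eq_one (x : S.M) {c : ℕ} (hc : vM S x = S.d c) (hlt : c < 2 ^ 162) : qM S x = 1 ↔ isZ c = true := by
  rw [← center_iff x hc hlt]
  exact QuotientGroup.eq_one_iff x

/-- The outer automorphism is not inner. -/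
theorem not_inner (τE : S.M ≃* S.M) (hcen : (Subgroup.center S.M).map τE.toMonoidHom = Subgroup.center S.M)
    (hz : ∀ z : S.M, vM S z = S.d zc → vM S (τE z) = S.d zc2) :
    QuotientGroup.congr (Subgroup.center S.M) (Subgroup.center S.M) τE hcen ∉ Inn (S.M ⧸ Subgroup.center S.M) := by
  rintro ⟨g', hg'⟩
  obtain ⟨g, rfl⟩ := QuotientGroup.mk_surjective g'
  have hconj : ∀ x : S.M, x ^ 19 = 1 → g * x * g⁻¹ = τE x := by
    intro x hx
    have h1 : ((g * x * g⁻¹ : S.M) : S.M ⧸ Subgroup.center S.M) = ((τE x : S.M) : S.M ⧸ Subgroup.center S.M) := by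
      have := congrArg (fun σ : MulAut (S.M ⧸ Subgroup.center S.M) => σ (x : S.M ⧸ Subgroup.center S.M)) hg'
      exact this
    rw [QuotientGroup.eq] at h1
    set c := (g * x * g⁻¹)⁻¹ * τE x with hc
    have h3 : c ^ 3 = 1 := center_cube h1
    have e : τE x = (g * x * g⁻¹) * c := by
      rw [hc, mul_inv_cancel_left]
    have hcomm : Commute (g * x * g⁻¹) c := (Subgroup.mem_center_iff.mp h1 _)
    have h4 : (g * x * g⁻¹) ^ 19 = 1 := by
      rw [conj_pow, hx, mul_one, mul_inv_cancel]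
    have h5 : (τE x) ^ 19 = 1 := by
      rw [← map_pow, hx, map_one]
    rw [e, hcomm.mul_pow, h4, one_mul] at h5
    have h6 : c = 1 := by
      have : c ^ 19 = (c ^ 3) ^ 6 * c := by
        rw [← pow_mul, ← pow_succ]
      rw [this, h3, one_pow, one_mul] at h5
      exact h5
    rw [e, h6, mul_one]
  have hA19 : (⟨S.gA, gA_mem⟩ : S.M) ^ 19 = 1 := by
    apply vM_inj
    rw [vM_pow (c := cA) S.hgA, Nat.eq_of_beq_eq_true pw_ok.2.2.1, S.hone, map_one]
  have hB19 : (⟨S.gB, gB_mem⟩ : S.M) ^ 19 = 1 := by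
    apply vM_inj
    rw [vM_pow (c := cB) S.hgB, pw_cB', S.hone, map_one]
  have hall : ∀ x : S.M, g * x * g⁻¹ = τE x := by
    let C : Subgroup S.M := MonoidHom.eqLocus (MulAut.conj g).toMonoidHom τE.toMonoidHom
    exact M_ind C (hconj _ hA19) (hconj _ hB19)
  obtain ⟨z', ez, hzc, _⟩ := central_exists S
  have h1 := hall z'
  have h2 : g * z' * g⁻¹ = z' := by
    rw [(Subgroup.mem_center_iff.mp hzc g), mul_assoc, mul_inv_cancel, mul_one]
  rw [h2] at h1
  have h3 := hz z' ez
  rw [← h1, ez] at h3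
  exact zc2_ne (S.hinj _ _ zc2_lt lt_ok.2.2.2.1 h3.symm)

/-- The main theorem on the outer automorphism group. -/
theorem out_two (τ : Γ →* Γ) (hτ2 : ∀ g, τ (τ g) = g) (hτA : S.v (τ S.gA) = S.d tA) (hτB : S.v (τ S.gB) = S.d tB)
    (hτz : ∀ z, S.v z = S.d zc → S.v (τ z) = S.d zc2) : Nat.card (Out (S.M ⧸ Subgroup.center S.M)) = 2 := by
  obtain ⟨L, hLM, _, hT1, hT2⟩ := chain_exists S
  have hτM : ∀ x ∈ S.M, τ x ∈ S.M := by
    have hA : τ S.gA ∈ S.M := by
      obtain ⟨h, hh, eh⟩ := rep_of_sift hLM hT1 hT2 sift_tA_ok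
      have : τ S.gA = h := S.hv (by rw [hτA, eh])
      rw [this]
      exact hh
    have hB : τ S.gB ∈ S.M := by
      obtain ⟨h, hh, eh⟩ := rep_of_sift hLM hT1 hT2 sift_tB_ok
      have : τ S.gB = h := S.hv (by rw [hτB, eh])
      rw [this]
      exact hh
    have : S.M ≤ S.M.comap τ := by
      refine (Subgroup.closure_le _).mpr ?_
      rintro _ (rfl | h)
      · exact hA
      · rw [Set.mem_singleton_iff] at h
        rw [h]
        exact hB
    exact fun x hx => this hx
  let f : S.M →* S.M := (τ.comp S.M.subtype).codRestrict S.M (fun x => hτM x x.2)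
  have hff : f.comp f = MonoidHom.id _ := by
    ext x
    exact hτ2 x
  let τE : S.M ≃* S.M := MonoidHom.toMulEquiv f f hff hff
  have hcen : (Subgroup.center S.M).map τE.toMonoidHom = Subgroup.center S.M :=
    (Subgroup.characteristic_iff_map_eq.mp inferInstance) τE
  let σ : MulAut (S.M ⧸ Subgroup.center S.M) := QuotientGroup.congr _ _ τE hcen
  have hσ : σ ∉ Inn (S.M ⧸ Subgroup.center S.M) := not_inner τE hcen (fun z hz => hτz z hz)
  have hσq : ∀ x : S.M, σ (qM S x) = qM S (τE x) := fun x => rfl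
  let gA' : S.M := ⟨S.gA, gA_mem⟩
  let gB' : S.M := ⟨S.gB, gB_mem⟩
  have eA : vM S gA' = S.d cA := S.hgA
  have eB : vM S gB' = S.d cB := S.hgB
  obtain ⟨y0g, hy0M, ey0⟩ := rep_of_sift hLM hT1 hT2 sift_y0_ok
  let y0' : S.M := ⟨y0g, hy0M⟩
  have ey : vM S y0' = S.d y0 := ey0
  obtain ⟨ρg, hρM, eρ⟩ := wcode_rep (S := S) wRho
  let ρ' : S.M := ⟨ρg, hρM⟩
  have er : vM S ρ' = S.d (wcode wRho) := eρ
  obtain ⟨hg, hhM, eh⟩ := wcode_rep (S := S) wH
  let h0 : S.M := ⟨hg, hhM⟩
  have eh0 : vM S h0 = S.d (wcode wH) := eh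
  have eA6 : vM S (gA' ^ 6) = S.d A6c := by
    rw [vM_pow eA, ← A6_eq]
  have hc19 : (50232960 : ℕ) = 50232960 := rfl
  have hcardQ : Nat.card (S.M ⧸ Subgroup.center S.M) = 50232960 := (main S).2.2.1
  refine out_two_of (π := qM S gA') (y := qM S y0') (ρ := qM S ρ') (h' := qM S h0) σ hσ ?_ ?_ ?_ ?_ ?_ ?_ ?_ ?_ ?_ ?_ ?_
  · rw [hcardQ]
    norm_num
  · rw [← map_pow]
    have : gA' ^ 19 = 1 := by
      apply vM_inj
      rw [vM_pow eA, Nat.eq_of_beq_eq_true pw_ok.2.2.1, S.hone, map_one]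
    rw [this, map_one]
  · intro h
    have := (qM_eq_one gA' eA lt_ok.2.2.1).mp h
    rw [isZ_cA] at this
    exact absurd this (by simp)
  · rw [← map_pow, ← map_mul, ← map_mul]
    congr 1
    apply vM_inj
    rw [vM_mul er eA, vM_mul (vM_pow eA 9) er, rho_ok]
  · -- generation
    apply le_antisymm le_top
    intro x _
    obtain ⟨x, rfl⟩ := QuotientGroup.mk'_surjective _ x
    let C : Subgroup S.M := (Subgroup.closure {qM S gA', qM S y0'}).comap (qM S)
    have hAC : gA' ∈ C := Subgroup.subset_closure (Set.mem_insert _ _)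
    have hyC : y0' ∈ C := Subgroup.subset_closure (Set.mem_insert_of_mem _ rfl)
    have hAiC : gA'⁻¹ ∈ C := C.inv_mem hAC
    have eAi : vM S gA'⁻¹ = S.d cAi := by
      have h1 : vM S gA'⁻¹ * vM S gA' = 1 := by rw [← map_mul, inv_mul_cancel, map_one]
      have h2 : S.d cA * S.d cAi = 1 := by rw [← S.hmm, cA_inv.1, S.hone]
      calc vM S gA'⁻¹ = vM S gA'⁻¹ * (S.d cA * S.d cAi) := by rw [h2, mul_one]
        _ = S.d cAi := by rw [← eA, ← mul_assoc, h1, one_mul]
    have hlet : ∀ l, ∃ u ∈ C, vM S u = S.d (ltY l) := by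
      intro l
      cases l with
      | zero => exact ⟨_, hAC, eA⟩
      | succ n =>
        cases n with
        | zero => exact ⟨_, hAiC, eAi⟩
        | succ n => exact ⟨_, hyC, ey⟩
    have hword : ∀ w : List ℕ, ∃ u ∈ C, vM S u = S.d (wcodeY w) := by
      intro w
      induction w with
      | nil => exact ⟨1, C.one_mem, by rw [map_one]; exact S.hone.symm⟩
      | cons l w ih =>
        obtain ⟨u, hu, e⟩ := hlet l
        obtain ⟨u', hu', e'⟩ := ih
        exact ⟨u * u', C.mul_mem hu hu', vM_mul e e'⟩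
    obtain ⟨u, hu, e⟩ := hword wBy
    rw [wBy_ok] at e
    have huB : u = gB' := vM_inj (by rw [e, eB])
    rw [huB] at hu
    exact M_ind C hAC hu x
  · rw [← map_pow]
    have : y0' ^ 2 = 1 := by
      apply vM_inj
      rw [pow_two, vM_mul ey ey, y0_sq, S.hone, map_one]
    rw [this, map_one]
  · intro h
    have := (qM_eq_one y0' ey y0_lt).mp h
    rw [isZ_y0] at this
    exact absurd this (by simp)
  · rw [← map_mul, ← map_pow]
    have h := y0_rel1
    simp only [rel1, frc_eq] at h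
    have e1 := vM_mul eA ey
    rw [pow_succ', pow_two]
    have e2 := vM_mul e1 (vM_mul e1 e1)
    exact (qM_eq_one _ e2 (mm_lt _ _)).mpr h
  · rw [← map_pow, ← map_mul, ← map_pow]
    have h := y0_rel2
    simp only [rel2] at h
    exact (qM_eq_one _ (vM_pow (vM_mul eA6 ey) 8) (pw_lt _ _ (by norm_num))).mpr h
  · intro y' h2 h1 h3 h8
    obtain ⟨x, rfl⟩ := QuotientGroup.mk'_surjective _ y'
    have hx2c : x ^ 2 ∈ Subgroup.center S.M := by
      have : qM S (x ^ 2) = 1 := by rw [map_pow]; exact h2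
      exact (QuotientGroup.eq_one_iff _).mp this
    have hw2 : (x ^ 3) ^ 2 = 1 := by
      have := center_cube hx2c
      rw [← pow_mul] at this ⊢
      exact this
    have qw : qM S (x ^ 3) = QuotientGroup.mk' _ x := by
      rw [map_pow, pow_succ]
      have h2' : qM S x ^ 2 = 1 := h2
      rw [h2', one_mul]
    have h1' : qM S (x ^ 3) ≠ 1 := by
      rw [qw]
      exact h1
    have hw1 : ((x ^ 3 : S.M) : Γ) ≠ 1 := by
      intro h0
      apply h1'
      have : x ^ 3 = 1 := Subtype.ext h0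
      rw [this, map_one]
    obtain ⟨i, hi, ei⟩ := inv_list (x ^ 3).2 (congrArg Subtype.val hw2) hw1
    have ew : vM S (x ^ 3) = S.d (invC i) := ei
    obtain ⟨_, _, _, _, h5⟩ := line_spec hi
    have r1 : rel1 (invC i) = true := by
      simp only [rel1, frc_eq]
      have e1 := vM_mul eA ew
      have e2 := vM_mul e1 (vM_mul e1 e1)
      refine (qM_eq_one _ e2 (mm_lt _ _)).mp ?_
      rw [← pow_two, ← pow_succ', map_pow, map_mul, qw]
      exact h3
    have r2 : rel2 (invC i) = true := by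
      simp only [rel2]
      have e2 := vM_pow (vM_mul eA6 ew) 8
      refine (qM_eq_one _ e2 (pw_lt _ _ (by norm_num))).mp ?_
      rw [map_pow, map_mul, map_pow, qw]
      exact h8
    have r3 := h5 r1 r2
    simp only [inShort, List.any_eq_true] at r3
    obtain ⟨s, hs, es⟩ := r3
    rw [Nat.beq_eq] at es
    rw [← es] at hs
    obtain ⟨k, _, hk⟩ := short_ok _ hs
    rw [Nat.beq_eq] at hk
    refine ⟨k, ?_⟩
    rw [← qw, ← map_pow, ← map_mul, ← map_mul]
    congr 1
    apply vM_inj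
    rw [vM_mul ew (vM_pow eA k), vM_mul (vM_pow eA k) ey, hk]
  · rw [hσq, ← map_pow, ← map_mul, ← map_mul]
    congr 1
    apply vM_inj
    have et : vM S (τE gA') = S.d tA := hτA
    rw [vM_mul eh0 et, vM_mul (vM_pow eA 18) eh0, twist_ok]

end Cfsg.Agent.Lib.Compute.J3.OutThm
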