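import Cfsg.Agent.Lib.Compute.J3.Chain
import Cfsg.Agent.Lib.Compute.J3.F4Mat
import Cfsg.Agent.Lib.Compute.J3.Data

/-!
# The permutation group of degree 6156

The group `P` generated by two explicit permutations of `Fin 6156`: it is transitive, of order at least 50232960,
primitive, and generated by elements of order 19.  So it is simple as soon as its order is known.
-/

set_option autoImplicit false

namespace Cfsg.Agent.Lib.Compute.J3.PermPart

open MulAction
open Cfsg.Agent.Lib.Compute.PermCert Cfsg.Agent.Lib.Compute.PermSimple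
open Cfsg.Agent.Lib.Compute.J3.Data Cfsg.Agent.Lib.Compute.J3.Chain Cfsg.Agent.Lib.Compute.J3.F4Mat

/-- The element `A`. -/
abbrev eA : Elt := ⟨fA, gA⟩
/-- The element `B`. -/
abbrev eB : Elt := ⟨fB, gB⟩
/-- The generators. -/
abbrev gens : List Elt := [eA, eB]
/-- The degree. -/
abbrev deg : Nat := 6156
/-- The group. -/
abbrev P : Subgroup (Equiv.Perm (Fin deg)) := genGroup 13 8191 deg gens

/-- Words acting on points. -/
abbrev wf : List Nat → Nat → Nat := wordFn 13 8191 gens
/-- Words as permutations. -/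
abbrev wp : List Nat → Equiv.Perm (Fin deg) := wordPerm 13 8191 deg gens

theorem valid_gens : gens.all (validB 13 8191 deg) = true := by decide +kernel

theorem wf_eq (u : List Nat) (i : Fin deg) : wf u i = (wp u i : Nat) := wordFn_eq valid_gens u i

/-- The base point. -/
abbrev pt0 : Fin deg := ⟨0, by decide⟩

/-! ### Transitivity -/

/-- The tree check. -/
def treeOK0 (j : Nat) : Bool :=
  Nat.rec true (fun _ _ =>
    Nat.blt (Nat.land (get 14 16383 par0 j) 8191) j &&
      Nat.beq (wf [Nat.mul 2 (Nat.shiftRight (get 14 16383 par0 j) 13)] (Nat.land (get 14 16383 par0 j) 8191)) j) j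

theorem tree0_ok : allB treeOK0 deg = true := by decide +kernel

theorem reach0 (j : Nat) (hj : j < deg) : ∃ g ∈ P, (g pt0 : Nat) = j := by
  induction j using Nat.strong_induction_on with
  | _ j ih =>
    cases j with
    | zero => exact ⟨1, Subgroup.one_mem _, rfl⟩
    | succ k =>
      have h := (allB_iff _ _).mp tree0_ok (k + 1) hj
      have h' : (Nat.blt (Nat.land (get 14 16383 par0 (k + 1)) 8191) (k + 1) &&
          Nat.beq (wf [Nat.mul 2 (Nat.shiftRight (get 14 16383 par0 (k + 1)) 13)]
            (Nat.land (get 14 16383 par0 (k + 1)) 8191)) (k + 1)) = true := h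
      simp only [Bool.and_eq_true, Nat.blt_eq, Nat.beq_eq] at h'
      obtain ⟨h1, h2⟩ := h'
      obtain ⟨g, hg, hgp⟩ := ih _ h1 (by omega)
      refine ⟨wp [Nat.mul 2 (Nat.shiftRight (get 14 16383 par0 (k + 1)) 13)] * g,
        Subgroup.mul_mem _ (wordPerm_mem _ _) hg, ?_⟩
      rw [Equiv.Perm.mul_apply, ← wf_eq, hgp]
      exact h2

instance : IsPretransitive P (Fin deg) := by
  have hbase : ∀ x : Fin deg, ∃ g : P, g • pt0 = x := by
    intro x
    obtain ⟨g, hg, hgx⟩ := reach0 x x.2
    exact ⟨⟨g, hg⟩, Fin.ext hgx⟩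
  refine ⟨fun x y => ?_⟩
  obtain ⟨g, rfl⟩ := hbase x
  obtain ⟨h, rfl⟩ := hbase y
  exact ⟨h * g⁻¹, by simp [mul_smul]⟩

/-! ### The lower bound -/

/-- The pointwise stabilizer of a list of points in `P`. -/
def pst : List (Fin deg) → Subgroup (Equiv.Perm (Fin deg))
  | [] => P
  | b :: l => pst l ⊓ MulAction.stabilizer (Equiv.Perm (Fin deg)) b

theorem mem_pst {g : Equiv.Perm (Fin deg)} (l : List (Fin deg)) : g ∈ pst l ↔ g ∈ P ∧ ∀ b ∈ l, g b = b := by
  induction l with
  | nil => simp [pst]
  | cons b l ih =>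
    simp only [pst, Subgroup.mem_inf, ih, List.mem_cons, forall_eq_or_imp, MulAction.mem_stabilizer_iff]
    constructor
    · rintro ⟨⟨h1, h2⟩, h3⟩
      exact ⟨h1, h3, h2⟩
    · rintro ⟨h1, h3, h2⟩
      exact ⟨⟨h1, h2⟩, h3⟩

/-- The check of one level. -/
def lvlOK (prev : List Nat) (b : Nat) (ws : List (List Nat)) : Bool :=
  ws.all (fun u => prev.all fun q => Nat.beq (wf u q) q) && nodupB (ws.map fun u => wf u b)

theorem step_lvl (l : List (Fin deg)) (b : Fin deg) (ws : List (List Nat))
    (hok : lvlOK (l.map Fin.val) b ws = true) :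
    ws.length * Nat.card (pst (b :: l)) ≤ Nat.card (pst l) := by
  simp only [lvlOK, Bool.and_eq_true, List.all_eq_true, Nat.beq_eq] at hok
  obtain ⟨h1, h2⟩ := hok
  have h3 := nodupB_iff h2
  have := card_ge_step (pst l) b (ws.map wp) ?_ ?_
  · rw [List.length_map] at this
    exact this
  · intro g hg
    obtain ⟨u, hu, rfl⟩ := List.mem_map.mp hg
    rw [mem_pst]
    refine ⟨wordPerm_mem _ _, fun q hq => ?_⟩
    have := h1 u hu q (List.mem_map.mpr ⟨q, hq, rfl⟩)
    apply Fin.ext
    rw [← wf_eq]
    exact this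
  · have e : (ws.map wp).map (fun g => g b) = ws.map fun u => wp u b := by simp [Function.comp_def]
    rw [e]
    have e2 : (ws.map fun u => wp u b).map Fin.val = ws.map fun u => wf u b := by
      simp only [List.map_map]
      apply List.map_congr_left
      intro u _
      exact (wf_eq u b).symm
    rw [← e2] at h3
    exact List.Nodup.of_map _ h3

/-- Base points. -/
abbrev b1 : Fin deg := ⟨lb1, by decide⟩
/-- Base points. -/
abbrev b2 : Fin deg := ⟨lb2, by decide⟩
/-- Base points. -/
abbrev b3 : Fin deg := ⟨lb3, by decide⟩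
/-- Base points. -/
abbrev b4 : Fin deg := ⟨lb4, by decide⟩

theorem lvl1 : lvlOK ([pt0].map Fin.val) b1 lw1 = true := by decide +kernel
theorem lvl2 : lvlOK ([b1, pt0].map Fin.val) b2 lw2 = true := by decide +kernel
theorem lvl3 : lvlOK ([b2, b1, pt0].map Fin.val) b3 lw3 = true := by decide +kernel
theorem lvl4 : lvlOK ([b3, b2, b1, pt0].map Fin.val) b4 lw4 = true := by decide +kernel

theorem len1 : lw1.length = 85 := by decide +kernel
theorem len2 : lw2.length = 12 := by decide +kernel
theorem len3 : lw3.length = 4 := by decide +kernel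
theorem len4 : lw4.length = 2 := by decide +kernel

theorem card_ge : 50232960 ≤ Nat.card P := by
  have h0 : 6156 * Nat.card (pst [pt0]) ≤ Nat.card P := by
    classical
    choose f hf hfv using fun x : Fin deg => reach0 x x.2
    have := card_ge_step P pt0 (List.ofFn f) ?_ ?_
    · rw [List.length_ofFn] at this
      exact this
    · intro g hg
      obtain ⟨i, rfl⟩ := (List.mem_ofFn' _ _).mp hg
      exact hf _
    · have e : (List.ofFn f).map (fun g => g pt0) = List.ofFn id := by
        rw [List.map_ofFn]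
        congr 1
        funext x
        exact Fin.ext (hfv x)
      rw [e]
      exact (List.nodup_ofFn).mpr Function.injective_id
  have h1 := step_lvl [pt0] b1 lw1 lvl1
  have h2 := step_lvl [b1, pt0] b2 lw2 lvl2
  have h3 := step_lvl [b2, b1, pt0] b3 lw3 lvl3
  have h4 := step_lvl [b3, b2, b1, pt0] b4 lw4 lvl4
  rw [len1] at h1
  rw [len2] at h2
  rw [len3] at h3
  rw [len4] at h4
  have h5 : 1 ≤ Nat.card (pst [b4, b3, b2, b1, pt0]) := Nat.card_pos
  omega

/-! ### Primitivity -/

/-- The subgroup stabilizing the point `0`, up to now. -/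
abbrev K : Subgroup (Equiv.Perm (Fin deg)) := Subgroup.closure {wp w1a, wp w1b}

theorem K_le : K ≤ P := by
  refine (Subgroup.closure_le _).mpr ?_
  rintro _ (rfl | h)
  · exact wordPerm_mem _ _
  · rw [Set.mem_singleton_iff] at h
    rw [h]
    exact wordPerm_mem _ _

theorem fix_w1a : wf w1a 0 = 0 := by decide +kernel
theorem fix_w1b : wf w1b 0 = 0 := by decide +kernel

theorem K_fix (k : Equiv.Perm (Fin deg)) (hk : k ∈ K) : k pt0 = pt0 := by
  induction hk using Subgroup.closure_induction with
  | mem x hx =>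
    rcases hx with rfl | h
    · apply Fin.ext
      rw [← wf_eq]
      exact fix_w1a
    · rw [Set.mem_singleton_iff] at h
      rw [h]
      apply Fin.ext
      rw [← wf_eq]
      exact fix_w1b
  | one => rfl
  | mul x y _ _ ihx ihy =>
    rw [Equiv.Perm.mul_apply, ihy, ihx]
  | inv x _ ih =>
    rw [Equiv.Perm.inv_eq_iff_eq, ih]

/-- The class table at a point. -/
def ce (x : Nat) : Nat := get 23 8388607 clsT x
/-- The class of a point. -/
def cc (x : Nat) : Nat := Nat.land (ce x) 7
/-- The parent of a point. -/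
def cp (x : Nat) : Nat := Nat.land (Nat.shiftRight (ce x) 3) 8191
/-- The letter of a point. -/
def cl' (x : Nat) : Nat := Nat.land (Nat.shiftRight (ce x) 16) 1
/-- The depth of a point. -/
def cd (x : Nat) : Nat := Nat.shiftRight (ce x) 17

/-- The root of a class. -/
def rootOf (c : Nat) : Nat := roots.getD c 0

/-- The word of a letter. -/
def wl (l : Nat) : List Nat := Nat.rec w1a (fun _ _ => w1b) l

/-- The check of a point at a given depth. -/
def clsChk (x : Nat) : Nat → Bool
  | 0 => Nat.beq x (rootOf (cc x))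
  | d + 1 => Nat.blt (cp x) deg && Nat.beq (wf (wl (cl' x)) (cp x)) x && Nat.beq (cc (cp x)) (cc x) &&
      Nat.beq (Nat.succ (cd (cp x))) (d + 1)

/-- The check of a point. -/
def clsOK (x : Nat) : Bool := clsChk x (cd x)

theorem cls_ok : allB clsOK deg = true := by decide +kernel

theorem roots_lt : ∀ c, c < 8 → rootOf c < deg := by decide +kernel

theorem wl_mem (l : Nat) : wp (wl l) ∈ K := by
  cases l with
  | zero => exact Subgroup.subset_closure (Set.mem_insert _ _)
  | succ n => exact Subgroup.subset_closure (Set.mem_insert_of_mem _ rfl)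

theorem cc_lt (x : Nat) : cc x < 8 := by
  have h : Nat.land (ce x) 7 ≤ 7 := Nat.and_le_right
  exact Nat.lt_succ_of_le h

theorem reach_cls (d : Nat) : ∀ x, x < deg → cd x = d →
    ∃ k ∈ K, (k ⟨rootOf (cc x), roots_lt _ (cc_lt x)⟩ : Nat) = x := by
  induction d with
  | zero =>
    intro x hx hd
    have h : clsChk x (cd x) = true := (allB_iff _ _).mp cls_ok x hx
    rw [hd, clsChk, Nat.beq_eq] at h
    exact ⟨1, Subgroup.one_mem _, h.symm⟩
  | succ d ih =>
    intro x hx hd
    have h : clsChk x (cd x) = true := (allB_iff _ _).mp cls_ok x hx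
    rw [hd, clsChk] at h
    simp only [Bool.and_eq_true, Nat.blt_eq, Nat.beq_eq] at h
    obtain ⟨⟨⟨h3, h4⟩, h5⟩, h6⟩ := h
    have h7 : cd (cp x) = d := by omega
    obtain ⟨k, hk, hkv⟩ := ih (cp x) h3 h7
    refine ⟨wp (wl (cl' x)) * k, Subgroup.mul_mem _ (wl_mem _) hk, ?_⟩
    have h8 : (k ⟨rootOf (cc x), roots_lt _ (cc_lt x)⟩ : Nat) = cp x := by
      rw [← hkv]
      have : (⟨rootOf (cc x), roots_lt _ (cc_lt x)⟩ : Fin deg) = ⟨rootOf (cc (cp x)), roots_lt _ (cc_lt _)⟩ :=
        Fin.ext (congrArg rootOf h5.symm)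
      rw [this]
    rw [Equiv.Perm.mul_apply, ← wf_eq, h8]
    exact h4

/-- The class of a point. -/
def clF (x : Fin deg) : Fin 8 := ⟨cc x, cc_lt x⟩

/-- The size of a class. -/
def szF (c : Fin 8) : Nat := sizes.getD c 0

/-- A sum with a forced accumulator. -/
def cntA (b : Nat → Nat) : Nat → Nat → Nat
  | 0, acc => acc
  | k + 1, acc => Nat.rec (cntA b k 0) (fun v _ => cntA b k (Nat.succ v)) (acc + b k)

theorem cntA_eq (b : Nat → Nat) (n : Nat) : ∀ acc, cntA b n acc = acc + ∑ i ∈ Finset.range n, b i := by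
  induction n with
  | zero => intro acc; simp [cntA]
  | succ k ih =>
    intro acc
    rw [Finset.sum_range_succ]
    have h1 : cntA b (k + 1) acc = Nat.rec (motive := fun _ => Nat) (cntA b k 0)
        (fun v _ => cntA b k (Nat.succ v)) (acc + b k) := rfl
    rw [h1]
    cases h : acc + b k with
    | zero =>
      show cntA b k 0 = _
      rw [ih]
      omega
    | succ v =>
      show cntA b k (Nat.succ v) = _
      rw [ih]
      omega

/-- Counting points of a class. -/
def cntC (c : Nat) : Nat := cntA (fun k => bif Nat.beq (cc k) c then 1 else 0) deg 0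

theorem cntC_ok : ∀ c : Fin 8, cntC c = szF c := by decide +kernel

theorem card_cls (c : Fin 8) : (Finset.univ.filter fun x => clF x = c).card = szF c := by
  rw [← cntC_ok c, cntC, cntA_eq, Finset.card_filter, zero_add]
  rw [← Fin.sum_univ_eq_sum_range (fun k => bif Nat.beq (cc k) c then 1 else 0)]
  apply Finset.sum_congr rfl
  intro x _
  by_cases h : cc x = c
  · have h1 : clF x = c := Fin.ext h
    have h2 : Nat.beq (cc x) c = true := by rw [Nat.beq_eq]; exact h
    rw [if_pos h1, h2]
    rfl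
  · have h1 : clF x ≠ c := fun e => h (congrArg Fin.val e)
    have h2 : Nat.beq (cc x) c = false := by
      rw [← Bool.not_eq_true, Nat.beq_eq]
      exact h
    rw [if_neg h1, h2]
    rfl

theorem cc0 : cc 0 = 0 := by decide +kernel

theorem harith : ∀ J : Finset (Fin 8), (0 : Fin 8) ∈ J → (∑ c ∈ J, szF c) ∣ 6156 →
    (∑ c ∈ J, szF c) = 1 ∨ (∑ c ∈ J, szF c) = 6156 := by decide +kernel

theorem clF_conn (x y : Fin deg) (h : clF x = clF y) : ∃ k ∈ K, k x = y := by
  have hc : cc x = cc y := congrArg Fin.val h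
  obtain ⟨k1, hk1, e1⟩ := reach_cls _ x x.2 rfl
  obtain ⟨k2, hk2, e2⟩ := reach_cls _ y y.2 rfl
  have e : (⟨rootOf (cc x), roots_lt _ (cc_lt x)⟩ : Fin deg) = ⟨rootOf (cc y), roots_lt _ (cc_lt y)⟩ :=
    Fin.ext (congrArg rootOf hc)
  have e1' : k1 ⟨rootOf (cc y), roots_lt _ (cc_lt y)⟩ = x := by
    rw [← e]
    exact Fin.ext e1
  have e2' : k2 ⟨rootOf (cc y), roots_lt _ (cc_lt y)⟩ = y := Fin.ext e2
  refine ⟨k2 * k1⁻¹, Subgroup.mul_mem _ hk2 (Subgroup.inv_mem _ hk1), ?_⟩
  rw [Equiv.Perm.mul_apply, ← e1']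
  show k2 (k1.symm (k1 _)) = y
  rw [Equiv.symm_apply_apply, e2']

instance P_prim : IsPreprimitive P (Fin deg) := by
  refine preprimitive_of_classes P pt0 K K_le K_fix clF clF_conn szF card_cls ?_
  intro J hJ hd
  have h0 : clF pt0 = (0 : Fin 8) := Fin.ext cc0
  rw [h0] at hJ
  exact harith J hJ hd

/-- The check of the order. -/
def ord19 (e : Elt) : Bool :=
  allB (fun i => Nat.beq ((get 13 8191 e.f)^[19] i) i) deg && !(Nat.beq (get 13 8191 e.f 0) 0)

theorem ord19_ok : gens.all ord19 = true := by decide +kernel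

/-- The generators do not commute. -/
theorem noncomm : Nat.beq (wf [0, 2] 0) (wf [2, 0] 0) = false := by decide +kernel

theorem P_order_gens (x : Equiv.Perm (Fin deg)) (hx : x ∈ {x | ∃ e ∈ gens, permOf 13 8191 deg e = x}) :
    ∃ k : ℕ, orderOf x = 19 ^ k := by
  obtain ⟨e, he, rfl⟩ := hx
  have h1 := List.all_eq_true.mp ord19_ok e he
  simp only [ord19, Bool.and_eq_true, Bool.not_eq_true', allB_iff, Nat.beq_eq] at h1
  have : Fact (Nat.Prime 19) := ⟨by norm_num⟩
  refine ⟨1, ?_⟩
  rw [pow_one]
  refine orderOf_permOf (List.all_eq_true.mp valid_gens e he) (fun i => h1.1 i i.2) ⟨⟨0, by decide⟩, ?_⟩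
  intro h
  have h2 : Nat.beq (get 13 8191 e.f 0) 0 = true := by
    rw [Nat.beq_eq]
    exact h
  rw [h2] at h1
  exact absurd h1.2 (by simp)

theorem P_nontrivial (hc : Nat.card P = 50232960) : Nontrivial P := by
  rw [← Finite.one_lt_card_iff_nontrivial, hc]
  norm_num

theorem P_simple (hc : Nat.card P = 50232960) : IsSimpleGroup P := by
  have := P_nontrivial hc
  have : Fact (Nat.Prime 19) := ⟨by norm_num⟩
  refine isSimpleGroup_of_pPart (X := Fin deg) 19 (a := 1) (m := 2643840) (by rw [hc]; norm_num) (by norm_num)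
    (by simp only [Nat.card_eq_fintype_card, Fintype.card_fin]; norm_num) ?_
  exact closure_pElts_eq_top P_order_gens

theorem comm_of_center_top {G : Type*} [Group G] (H : Subgroup G) (h : Subgroup.center H = ⊤) {a b : G} (ha : a ∈ H)
    (hb : b ∈ H) : a * b = b * a := by
  have hx : (⟨a, ha⟩ : H) ∈ Subgroup.center H := by rw [h]; trivial
  have := Subgroup.mem_center_iff.mp hx ⟨b, hb⟩
  exact (congrArg Subtype.val this).symm

theorem wp_pair (a b : Nat) : wp [a, b] = wp [a] * wp [b] := by
  simp only [wordPerm, mul_one]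

theorem P_center (hc : Nat.card P = 50232960) : Subgroup.center P = ⊥ := by
  have := P_simple hc
  rcases IsSimpleGroup.eq_bot_or_eq_top_of_normal (Subgroup.center P) inferInstance with h | h
  · exact h
  · exfalso
    have h2 : wp [0] * wp [2] = wp [2] * wp [0] :=
      comm_of_center_top _ h (wordPerm_mem _ _) (wordPerm_mem _ _)
    have h3 : wp [0, 2] = wp [2, 0] := by
      rw [wp_pair, wp_pair, h2]
    have h4 : wf [0, 2] 0 = wf [2, 0] 0 := by
      have e1 := wf_eq [0, 2] pt0
      have e2 := wf_eq [2, 0] pt0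
      have e3 : (pt0 : Nat) = 0 := rfl
      rw [e3] at e1 e2
      rw [e1, e2, h3]
    have h6 : Nat.beq (wf [0, 2] 0) (wf [2, 0] 0) = true := by
      rw [Nat.beq_eq]
      exact h4
    exact Bool.noConfusion (noncomm.symm.trans h6)

theorem stab_card_of {G : Type*} [Group G] [Finite G] {n m : ℕ} (hn : 0 < n) [MulAction G (Fin n)]
    [IsPretransitive G (Fin n)] (x : Fin n) (hc : Nat.card G = n * m) : Nat.card (MulAction.stabilizer G x) = m := by
  have h1 := MulAction.index_stabilizer (G := G) (x := x)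
  have h2 : MulAction.orbit G x = Set.univ := MulAction.orbit_eq_univ G _
  rw [h2, Set.ncard_univ, Nat.card_eq_fintype_card, Fintype.card_fin] at h1
  have h3 := Subgroup.card_mul_index (MulAction.stabilizer G x)
  rw [h1, hc, mul_comm] at h3
  exact Nat.eq_of_mul_eq_mul_left hn h3

theorem P_stab (hc : Nat.card P = 50232960) : Nat.card (MulAction.stabilizer P (0 : Fin 6156)) = 8160 :=
  stab_card_of (by norm_num) _ (by rw [hc])

end Cfsg.Agent.Lib.Compute.J3.PermPart
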